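import Groth.Agent.AlgSt.K161.IsoSh
import Groth.Agent.AlgSt.K746.GeomBij
import Groth.Agent.AlgSt.K746.WnaMod
import Groth.Agent.AlgSt.K734.FibFp2
import Groth.Agent.Gerb.K895.Glue
import Groth.Agent.Stk.K751.FF
import Groth.Prelude.Def_StGerb2

/-!
# 2-cartesian squares over algebraic spaces and pullback squares of sheaves of isomorphism classes

* `isPullback_shDesc`, `isPullback_of_isTwoCartOver` : from stacks to sheaves;
* `isUnifCatModuli_iff`, `geomPtBij_iff`;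
* `isTwoCartOver_of_isPullback` : from sheaves to stacks, for functors bijective on automorphisms.
-/

set_option autoImplicit false
set_option backward.isDefEq.respectTransparency false
set_option backward.isDefEq.respectTransparency.types false
universe u
open CategoryTheory CategoryTheory.Limits AlgebraicGeometry Opposite AlgSp

namespace K161.KM

open K594.Elem K594.Cover K734.Fib

variable {S : Scheme.{u}}

theorem isFibGrpd_ofSp (M : Sp S) : FibCat.IsFibGrpd (AlgSt.ofSp M).p := isFibGrpd_ofPsh' M.obj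

theorem autSurj_ofSp {𝒳 : AlgSt.Cat S} {M : Sp S} (F : 𝒳 ⥤ᵇ AlgSt.ofSp M) : AutSurj F := by
  intro x σ hσ
  refine ⟨𝟙 x, IsVert.id x, ?_⟩
  rw [F.toFunctor.map_id]
  exact K746.eq_of_lift (isFibSetoid_ofPsh _) (f := 𝟙 _) ((IsVert.id (𝒳 := AlgSt.ofSp M) (F.obj x)).lift rfl) (hσ.lift rfl)

section Id

variable (M : Sp S)

theorem shDesc_id_cl {T : Over S} (m : M.obj.obj (op T)) :
    (shDesc (isFibGrpd_ofSp M) (BasedFunctor.id (AlgSt.ofSp M))).hom.app (op T)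
      (cl (isFibGrpd_ofSp M) (⟨T, m⟩ : (AlgSt.ofSp M).obj) rfl) = m := by
  rw [shDesc_cl]
  exact secOf_eq (BasedFunctor.id (AlgSt.ofSp M)) rfl rfl

instance isIso_shDesc_id : IsIso (shDesc (isFibGrpd_ofSp M) (BasedFunctor.id (AlgSt.ofSp M))) := by
  have h1 : ∀ {T : Over S} (m : M.obj.obj (op T)),
      (pshHom (toSp (isFibGrpd_ofSp M))).app (op T) m = cl (isFibGrpd_ofSp M) (⟨T, m⟩ : (AlgSt.ofSp M).obj) rfl :=
    fun {T} m => by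
      rw [pshHom_app]
      exact secOf_toSp _ _ _
  refine ⟨⟨pshHom (toSp (isFibGrpd_ofSp M))⟩, ?_, ?_⟩
  · apply sh_hom_ext
    rintro ⟨T, m⟩
    rw [comp_app]
    refine (congrArg ((pshHom (toSp (isFibGrpd_ofSp M))).app (op T)) (shDesc_id_cl M m)).trans ?_
    exact h1 m
  · apply K594.Elem.hom_ext
    intro T m
    rw [comp_app]
    refine (congrArg _ (h1 m)).trans ?_
    exact shDesc_id_cl M m

end Id

section Sq

variable {𝒳 𝒴 : AlgSt.Cat S} (h𝒳 : FibCat.IsFibGrpd 𝒳.p) (h𝒴 : FibCat.IsFibGrpd 𝒴.p) {M M' : Sp S}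

theorem shMap_id_shDesc (F : 𝒳 ⥤ᵇ AlgSt.ofSp M) : shMap h𝒳 (isFibGrpd_ofSp M) F ≫
    shDesc (isFibGrpd_ofSp M) (BasedFunctor.id (AlgSt.ofSp M)) = shDesc h𝒳 F := by
  rw [shMap_shDesc]; rfl

theorem isPullback_comp_mono {P F G H K : Sp S} {fst : P ⟶ F} {snd : P ⟶ G} {f : F ⟶ H} {g : G ⟶ H} (i : H ⟶ K)
    [Mono i] (h : IsPullback fst snd f g) : IsPullback fst snd (f ≫ i) (g ≫ i) := by
  refine ⟨⟨by rw [reassoc_of% h.w]⟩, ⟨PullbackCone.IsLimit.mk _ (fun s => h.lift s.fst s.snd ?_) (fun s => ?_)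
    (fun s => ?_) (fun s m h1 h2 => ?_)⟩⟩
  · rw [← cancel_mono i, Category.assoc, Category.assoc]; exact s.condition
  · exact h.lift_fst _ _ _
  · exact h.lift_snd _ _ _
  · apply h.hom_ext
    · rw [h1, h.lift_fst]
    · rw [h2, h.lift_snd]

/-- Fibre products over an algebraic space. -/
theorem isPullback_shDesc (F : 𝒳 ⥤ᵇ AlgSt.ofSp M) (G : 𝒴 ⥤ᵇ AlgSt.ofSp M)
    (hP : FibCat.IsFibGrpd (FibCat.fp F G).p) :
    IsPullback (shMap hP h𝒳 (FibCat.fpFst F G)) (shMap hP h𝒴 (FibCat.fpSnd F G)) (shDesc h𝒳 F) (shDesc h𝒴 G) := by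
  have h1 := isPullback_shMap h𝒳 h𝒴 (isFibGrpd_ofSp M) F G (autSurj_ofSp F) hP
  have h2 := isPullback_comp_mono (shDesc (isFibGrpd_ofSp M) (BasedFunctor.id (AlgSt.ofSp M))) h1
  rwa [shMap_id_shDesc, shMap_id_shDesc] at h2

theorem isFibGrpd_fpSp (F : 𝒳 ⥤ᵇ AlgSt.ofSp M) (G : 𝒴 ⥤ᵇ AlgSt.ofSp M) (h𝒳 : FibCat.IsFibGrpd 𝒳.p)
    (h𝒴 : FibCat.IsFibGrpd 𝒴.p) : FibCat.IsFibGrpd (FibCat.fp F G).p :=
  isFibGrpd_fp _ _ h𝒳 h𝒴 (isFibGrpd_ofSp M)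

/-- Base change along a map of sheaves. -/
theorem isPullback_fpFst (g : M' ⟶ M) (π : 𝒴 ⥤ᵇ AlgSt.ofSp M)
    (hP : FibCat.IsFibGrpd (FibCat.fp (AlgSt.ofSpMap g) π).p) :
    IsPullback (shMap hP h𝒴 (FibCat.fpSnd (AlgSt.ofSpMap g) π)) (shDesc hP (FibCat.fpFst (AlgSt.ofSpMap g) π))
      (shDesc h𝒴 π) g := by
  have h1 := isPullback_shDesc (isFibGrpd_ofSp M') h𝒴 (AlgSt.ofSpMap g) π hP
  have e1 : shDesc (isFibGrpd_ofSp M') (AlgSt.ofSpMap g) =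
      shDesc (isFibGrpd_ofSp M') (BasedFunctor.id (AlgSt.ofSp M')) ≫ g := by
    rw [← shDesc_comp]; rfl
  rw [e1] at h1
  have h2 := h1.flip
  have h3 : IsPullback (shMap hP h𝒴 (FibCat.fpSnd (AlgSt.ofSpMap g) π))
      (shMap hP (isFibGrpd_ofSp M') (FibCat.fpFst (AlgSt.ofSpMap g) π) ≫
        shDesc (isFibGrpd_ofSp M') (BasedFunctor.id (AlgSt.ofSp M'))) (shDesc h𝒴 π) g := by
    refine IsPullback.of_iso h2 (Iso.refl _) (Iso.refl _)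
      (asIso (shDesc (isFibGrpd_ofSp M') (BasedFunctor.id (AlgSt.ofSp M')))) (Iso.refl _) ?_ ?_ ?_ ?_
    · simp
    · simp
    · simp
    · simp
  rwa [shMap_id_shDesc] at h3

/-- 2-cartesian squares over algebraic spaces give pullback squares. -/
theorem isPullback_of_isTwoCartOver {h : 𝒳 ⥤ᵇ 𝒴} {π : 𝒴 ⥤ᵇ AlgSt.ofSp M} {π' : 𝒳 ⥤ᵇ AlgSt.ofSp M'} {g : M' ⟶ M}
    {e : BasedFunctor.comp h π ≅ BasedFunctor.comp π' (AlgSt.ofSpMap g)} (hc : FibCat.IsTwoCartOver h π' e) :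
    IsPullback (shMap h𝒳 h𝒴 h) (shDesc h𝒳 π') (shDesc h𝒴 π) g := by
  have hP : FibCat.IsFibGrpd (FibCat.fp π (AlgSt.ofSpMap g)).p :=
    isFibGrpd_fpSp _ _ h𝒴 (isFibGrpd_ofSp M')
  have hP' : FibCat.IsFibGrpd (FibCat.fp (AlgSt.ofSpMap g) π).p :=
    isFibGrpd_fpSp _ _ (isFibGrpd_ofSp M') h𝒴
  have h1 := isPullback_fpFst h𝒴 g π hP'
  let k : 𝒳 ⥤ᵇ FibCat.fp (AlgSt.ofSpMap g) π := BasedFunctor.comp (FibCat.fpLift h π' e) (fpSwap π (AlgSt.ofSpMap g))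
  have hk : FibCat.IsEquivOver k := isEquivOver_comp hc (isEquivOver_fpSwap _ _)
  have := isIso_shMap h𝒳 hP' hk
  have e1 : shMap h𝒳 hP' k ≫ shMap hP' h𝒴 (FibCat.fpSnd (AlgSt.ofSpMap g) π) = shMap h𝒳 h𝒴 h := by
    rw [← shMap_comp]; rfl
  have e2 : shMap h𝒳 hP' k ≫ shDesc hP' (FibCat.fpFst (AlgSt.ofSpMap g) π) = shDesc h𝒳 π' := by
    rw [shMap_shDesc]; rfl
  rw [← e1, ← e2]
  exact IsPullback.of_iso h1 (asIso (shMap h𝒳 hP' k)).symm (Iso.refl _) (Iso.refl _) (Iso.refl _) (by simp) (by simp)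
    (by simp) (by simp)

end Sq

section Moduli

variable {𝒳 : AlgSt.Cat S} (h𝒳 : FibCat.IsFibGrpd 𝒳.p) {M : Sp S} (π : 𝒳 ⥤ᵇ AlgSt.ofSp M)

theorem isUnifCatModuli_iff : AlgSt.IsUnifCatModuli π ↔ IsAlgSpace M ∧ FUni (shDesc h𝒳 π) := by
  constructor
  · rintro ⟨h1, h2⟩
    refine ⟨((isCatModuli_iff h𝒳 π).1 h1).1, fun M' A' g g' p' hM' hg sq => ?_⟩
    have hP : FibCat.IsFibGrpd (FibCat.fp (AlgSt.ofSpMap g) π).p := isFibGrpd_fpSp _ _ (isFibGrpd_ofSp M') h𝒳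
    have h3 := ((isCatModuli_iff hP _).1 (h2 M' hM' g hg)).2
    have h4 := isPullback_fpFst h𝒳 g π hP
    intro N hN φ
    obtain ⟨k, hk, hu⟩ := h3 N hN ((sq.isoIsPullback _ _ h4).inv ≫ φ)
    refine ⟨k, ?_, fun k' hk' => hu k' ?_⟩
    · have h5 : p' = (sq.isoIsPullback _ _ h4).hom ≫ shDesc hP (FibCat.fpFst (AlgSt.ofSpMap g) π) :=
        (IsPullback.isoIsPullback_hom_snd _ _ sq h4).symm
      change p' ≫ k = φ
      rw [h5, Category.assoc, hk, Iso.hom_inv_id_assoc]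
    · have h5 : (sq.isoIsPullback _ _ h4).inv ≫ p' = shDesc hP (FibCat.fpFst (AlgSt.ofSpMap g) π) :=
        IsPullback.isoIsPullback_inv_snd _ _ sq h4
      refine (congrArg (· ≫ k') h5.symm).trans ?_
      exact (Category.assoc _ _ _).trans (congrArg (fun z => (sq.isoIsPullback _ _ h4).inv ≫ z) hk')
  · rintro ⟨hM, h⟩
    refine ⟨(isCatModuli_iff h𝒳 π).2 ⟨hM, h.uni hM⟩, fun M' hM' g hg => ?_⟩
    have hP : FibCat.IsFibGrpd (FibCat.fp (AlgSt.ofSpMap g) π).p := isFibGrpd_fpSp _ _ (isFibGrpd_ofSp M') h𝒳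
    exact (isCatModuli_iff hP _).2 ⟨hM', h g _ _ hM' hg (isPullback_fpFst h𝒳 g π hP)⟩

/-- Sections over geometric points are classes of objects. -/
theorem exists_cl_eq {Ω : Type u} [Field Ω] [IsAlgClosed Ω] (t : Spec (CommRingCat.of Ω) ⟶ S)
    (a : (Sh h𝒳).obj.obj (op (Over.mk t))) : ∃ (x : 𝒳.obj) (hx : 𝒳.p.obj x = Over.mk t), cl h𝒳 x hx = a := by
  obtain ⟨R, hR, h⟩ := exists_local h𝒳 a
  obtain ⟨x, hx, e⟩ := h _ (K746.AlgPt.mem_of_mem_J t hR)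
  exact ⟨x, hx, by rw [e, map_id_apply]⟩

theorem exists_vert_of_cl_eq {Ω : Type u} [Field Ω] [IsAlgClosed Ω] (t : Spec (CommRingCat.of Ω) ⟶ S)
    {x y : 𝒳.obj} {hx : 𝒳.p.obj x = Over.mk t} {hy : 𝒳.p.obj y = Over.mk t} (h : cl h𝒳 x hx = cl h𝒳 y hy) :
    ∃ φ : x ⟶ y, IsVert 𝒳 φ := by
  obtain ⟨R, hR, h'⟩ := exists_of_cl_eq h𝒳 h
  obtain ⟨z, α, β, hα, hβ⟩ := h' _ (K746.AlgPt.mem_of_mem_J t hR)
  have vα := IsVert.of_lift hα
  have := isIso_of_vert h𝒳 vα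
  exact ⟨CategoryTheory.inv α ≫ β, (IsVert.isIso_inv vα).comp (IsVert.of_lift hβ)⟩

theorem geomPtBij_iff : AlgSt.GeomPtBij π ↔ GeoBij (shDesc h𝒳 π) := by
  constructor
  · intro h Ω _ _ t
    refine ⟨fun a b hab => ?_, fun m => ?_⟩
    · obtain ⟨x, hx, rfl⟩ := exists_cl_eq h𝒳 t a
      obtain ⟨y, hy, rfl⟩ := exists_cl_eq h𝒳 t b
      rw [shDesc_cl, shDesc_cl] at hab
      obtain ⟨φ, hφ⟩ := K746.GeomBij.inj h t hx hy (by rw [secOf_spec π x hx, secOf_spec π y hy, hab])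
      exact cl_eq_of_vert h𝒳 hx hy hφ
    · obtain ⟨x, hx, hm⟩ := K746.GeomBij.surj h t m
      refine ⟨cl h𝒳 x hx, ?_⟩
      rw [shDesc_cl]
      exact secOf_eq π hx hm
  · intro h
    refine K746.GeomBij.geomPtBij_of h𝒳 ?_ ?_
    · intro Ω _ _ t m
      obtain ⟨a, ha⟩ := (h Ω t).2 m
      obtain ⟨x, hx, rfl⟩ := exists_cl_eq h𝒳 t a
      rw [shDesc_cl] at ha
      exact ⟨x, hx, by rw [secOf_spec π x hx, ha]⟩
    · intro Ω _ _ t x y hx hy hxy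
      refine exists_vert_of_cl_eq h𝒳 t (hx := hx) (hy := hy) ((h Ω t).1 ?_)
      rw [shDesc_cl, shDesc_cl]
      exact secOf_eq π hx (hxy.trans (secOf_spec π y hy))

end Moduli

end K161.KM
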