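import Groth.Agent.AlgSt.K161.Cart

/-!
# From pullback squares of sheaves of isomorphism classes to 2-cartesian squares

* `AutBij F` : bijective on vertical automorphisms, `autBij_iff`, base change;
* `isTwoCartOver_of_isPullback`.
-/

set_option autoImplicit false
set_option backward.isDefEq.respectTransparency false
set_option backward.isDefEq.respectTransparency.types false
universe u
open CategoryTheory CategoryTheory.Limits AlgebraicGeometry Opposite AlgSp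

namespace K161.KM

open K594.Elem K594.Cover K734.Fib

variable {S : Scheme.{u}}

section Aut

variable {𝒳 𝒴 𝒵 : AlgSt.Cat S}

/-- bijective on vertical automorphisms -/
structure AutBij (F : 𝒳 ⥤ᵇ 𝒵) : Prop where
  surj : AutSurj F
  inj : ∀ (x : 𝒳.obj) (τ τ' : x ⟶ x), IsVert 𝒳 τ → IsVert 𝒳 τ' → F.map τ = F.map τ' → τ = τ'

theorem exists_autO (h𝒳 : FibCat.IsFibGrpd 𝒳.p) {x : 𝒳.obj} (τ : x ⟶ x) (hτ : IsVert 𝒳 τ) :
    ∃ α : Gerb.AutO x, α.hom.1 = τ := by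
  have := isIso_of_vert h𝒳 hτ
  have h1 : 𝒳.p.IsHomLift (𝟙 (𝒳.p.obj x)) τ := hτ.lift rfl
  have h2 : 𝒳.p.IsHomLift (𝟙 (𝒳.p.obj x)) (CategoryTheory.inv τ) := (IsVert.isIso_inv hτ).lift rfl
  exact ⟨⟨⟨τ, h1⟩, ⟨CategoryTheory.inv τ, h2⟩, Subtype.ext (IsIso.hom_inv_id τ), Subtype.ext (IsIso.inv_hom_id τ)⟩, rfl⟩

theorem autBij_iff (h𝒳 : FibCat.IsFibGrpd 𝒳.p) (h𝒵 : FibCat.IsFibGrpd 𝒵.p) (F : 𝒳 ⥤ᵇ 𝒵) :
    AutBij F ↔ ∀ x, Function.Bijective (Gerb.autMap F x) := by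
  constructor
  · intro h x
    refine ⟨fun α β hαβ => ?_, fun β => ?_⟩
    · have h1 : F.map α.hom.1 = F.map β.hom.1 := congrArg (fun z => z.hom.1) hαβ
      have h2 := h.inj x α.hom.1 β.hom.1 (IsVert.of_lift α.hom.2) (IsVert.of_lift β.hom.2) h1
      apply Aut.ext
      apply Functor.Fiber.hom_ext
      exact h2
    · obtain ⟨τ, hτ, e⟩ := h.surj x β.hom.1 (IsVert.of_lift β.hom.2)
      obtain ⟨α, rfl⟩ := exists_autO h𝒳 τ hτ
      refine ⟨α, ?_⟩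
      apply Aut.ext
      apply Functor.Fiber.hom_ext
      exact e
  · intro h
    refine ⟨fun x σ hσ => ?_, fun x τ τ' hτ hτ' e => ?_⟩
    · obtain ⟨β, hβ⟩ := exists_autO h𝒵 σ hσ
      obtain ⟨α, hα⟩ := (h x).2 β
      refine ⟨α.hom.1, IsVert.of_lift α.hom.2, ?_⟩
      rw [← hβ, ← hα]
      rfl
    · obtain ⟨α, rfl⟩ := exists_autO h𝒳 τ hτ
      obtain ⟨β, rfl⟩ := exists_autO h𝒳 τ' hτ'
      have : α = β := (h x).1 (by
        apply Aut.ext
        apply Functor.Fiber.hom_ext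
        exact e)
      rw [this]

theorem AutBij.fpFst (F : 𝒳 ⥤ᵇ 𝒵) {G : 𝒴 ⥤ᵇ 𝒵} (hG : AutBij G) : AutBij (FibCat.fpFst F G) := by
  refine ⟨fun z σ hσ => ?_, fun z m m' hm hm' e => ?_⟩
  · have hσ' : IsVert 𝒳 (show z.obj.fst ⟶ z.obj.fst from σ) := hσ
    obtain ⟨τ, hτ, e⟩ := hG.surj z.obj.snd (z.obj.iso.inv ≫ F.map σ ≫ z.obj.iso.hom)
      ((iso_vert z).inv.comp ((hσ'.map F).comp (iso_vert z)))
    refine ⟨mkHomFp σ τ ?_, vert_fp_iff_fst.2 hσ, rfl⟩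
    rw [e, Iso.hom_inv_id_assoc]
  · have e' : m.hom.fst = m'.hom.fst := e
    refine homFp_ext e' (hG.inj _ _ _ (vert_fp_iff_snd.1 hm) (vert_fp_iff_snd.1 hm') ?_)
    rw [← cancel_epi z.obj.iso.hom, ← homFp_w m, ← homFp_w m', e']

theorem AutBij.fpSnd {F : 𝒳 ⥤ᵇ 𝒵} (G : 𝒴 ⥤ᵇ 𝒵) (hF : AutBij F) : AutBij (FibCat.fpSnd F G) := by
  refine ⟨fun z σ hσ => ?_, fun z m m' hm hm' e => ?_⟩
  · have hσ' : IsVert 𝒴 (show z.obj.snd ⟶ z.obj.snd from σ) := hσ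
    obtain ⟨τ, hτ, e⟩ := hF.surj z.obj.fst (z.obj.iso.hom ≫ G.map σ ≫ z.obj.iso.inv)
      ((iso_vert z).comp ((hσ'.map G).comp (iso_vert z).inv))
    refine ⟨mkHomFp τ σ ?_, vert_fp_iff_fst.2 hτ, rfl⟩
    rw [e, Category.assoc, Category.assoc, Iso.inv_hom_id, Category.comp_id]
  · have e' : m.hom.snd = m'.hom.snd := e
    refine homFp_ext (hF.inj _ _ _ (vert_fp_iff_fst.1 hm) (vert_fp_iff_fst.1 hm') ?_) e'
    rw [← cancel_mono z.obj.iso.hom, homFp_w m, homFp_w m', e']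

theorem faithful_of_autBij {F : 𝒳 ⥤ᵇ 𝒵} (hF : AutBij F) (h𝒳 : FibCat.IsFibGrpd 𝒳.p) (h𝒵 : FibCat.IsFibGrpd 𝒵.p)
    {x y : 𝒳.obj} {m m' : x ⟶ y} (e : F.map m = F.map m') : m = m' := by
  have hp : 𝒳.p.map m = 𝒳.p.map m' := by rw [map_base_eq F m, map_base_eq F m', e]
  obtain ⟨χ, hχ, hχ'⟩ := exists_fac h𝒳 m m' (𝟙 _) (by rw [Category.id_comp, hp])
  have hv : IsVert 𝒳 χ := IsVert.of_lift ((isHomLift_iff_map_eq (𝟙 (𝒳.p.obj x)) χ).2 hχ)
  have h1 : F.map χ = F.map (𝟙 x) := by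
    apply fac_unique h𝒵 (F.map m)
    · rw [map_eq_base, map_eq_base, hχ, CategoryTheory.Functor.map_id]
    · rw [← F.toFunctor.map_comp, hχ', ← F.toFunctor.map_comp, Category.id_comp, e]
  have h2 := hF.inj x χ (𝟙 x) hv (IsVert.id x) h1
  rw [← hχ', h2, Category.id_comp]

end Aut

section EQ

variable {𝒳' 𝒳 : AlgSt.Cat S} {M M' : Sp S}

/-- A pullback square of sheaves of isomorphism classes gives a 2-cartesian square. -/
theorem isTwoCartOver_of_isPullback (hs' : Stk.IsStack (J S) 𝒳') (hs : Stk.IsStack (J S) 𝒳) {h : 𝒳' ⥤ᵇ 𝒳}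
    {π : 𝒳 ⥤ᵇ AlgSt.ofSp M} {π' : 𝒳' ⥤ᵇ AlgSt.ofSp M'} {g : M' ⟶ M}
    (e : BasedFunctor.comp h π ≅ BasedFunctor.comp π' (AlgSt.ofSpMap g)) (haut : AutBij h)
    (sq : IsPullback (shMap hs'.1 hs.1 h) (shDesc hs'.1 π') (shDesc hs.1 π) g)
    (hP : Stk.IsPrestack (J S) (FibCat.fp π (AlgSt.ofSpMap g))) : FibCat.IsTwoCartOver h π' e := by
  have hs'p := K734.Rep.isPrestack_of_isStack hs'
  have hsp := K734.Rep.isPrestack_of_isStack hs
  obtain ⟨-, hinj, hlift⟩ := (isPullback_iff _ _ _ _).1 sq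
  have hfaith : (FibCat.fpLift h π' e).toFunctor.Faithful :=
    ⟨fun {w w'} m m' hm => faithful_of_autBij haut hs'.1 hs.1 (congrArg (fun k => k.hom.fst) hm)⟩
  have hfull : (FibCat.fpLift h π' e).toFunctor.Full := by
    refine ⟨fun {w w'} k => ?_⟩
    let k1 : h.obj w ⟶ h.obj w' := k.hom.fst
    let k2 : π'.obj w ⟶ π'.obj w' := k.hom.snd
    let T := 𝒳.p.obj (h.obj w)
    have hw : 𝒳'.p.obj w = T := (h.w_obj w).symm
    let f : T ⟶ 𝒳.p.obj (h.obj w') := 𝒳.p.map k1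
    have hk1 : 𝒳.p.IsHomLift f k1 := IsHomLift.map 𝒳.p k1
    have hk2 : (AlgSt.ofSp M').p.IsHomLift f k2 := FibCat.fp_isHomLift_snd π (AlgSt.ofSpMap g) k
    have hw' : 𝒳'.p.obj w' = 𝒳.p.obj (h.obj w') := (h.w_obj w').symm
    obtain ⟨w'', c, hc⟩ := exists_lift hs'.1 hw' f
    have hw'' : 𝒳'.p.obj w'' = T := IsHomLift.domain_eq 𝒳'.p f c
    obtain ⟨φ, hφ, hφc⟩ := exists_iso_of_lift hs.1 hk1 (h.preserves_isHomLift f c)
    -- the classes of `w` and `w''` agree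
    have hcl : cl hs'.1 w hw = cl hs'.1 w'' hw'' := by
      apply hinj
      · rw [shMap_cl, shMap_cl]
        exact cl_eq_of_vert hs.1 _ _ hφ
      · rw [shDesc_cl, shDesc_cl]
        have e1 : M'.obj.map f.op (secOf π' w' hw') = secOf π' w hw :=
          elt_map hk2 (secOf_spec π' w' hw') (secOf_spec π' w hw)
        rw [← e1, secOf_map π' hw' hw'' hc]
    obtain ⟨R, hR, hloc⟩ := exists_of_cl_eq hs'.1 hcl
    obtain ⟨b, hb, hbP⟩ := K895.Glue.glue_hom hs'.1 hw hw'' (hs'p.2 R hR)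
      (fun y α β => h.map α ≫ φ.hom = h.map β)
      (by
        intro V t ht
        obtain ⟨z, α, β, hα, hβ⟩ := hloc t ht
        have h1 : 𝒳.p.IsHomLift t (h.map α) := h.preserves_isHomLift t α
        have h2 : 𝒳.p.IsHomLift t (h.map β) := h.preserves_isHomLift t β
        have hφ' : 𝒳.p.IsHomLift (𝟙 T) φ.hom := hφ.lift rfl
        have h3 : 𝒳.p.IsHomLift t (h.map α ≫ φ.hom) := IsHomLift.comp_lift_id_right 𝒳.p t (h.map α) φ.hom
        obtain ⟨σ, hσ, hσβ⟩ := exists_iso_of_lift hs.1 h3 h2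
        obtain ⟨τ, hτ, eτ⟩ := haut.surj z σ.hom hσ
        have hzV : 𝒳'.p.obj z = V := IsHomLift.domain_eq 𝒳'.p t α
        have hτ' : 𝒳'.p.IsHomLift (𝟙 V) τ := hτ.lift hzV
        refine ⟨z, α, τ ≫ β, hα, IsHomLift.comp_lift_id_left 𝒳'.p t β τ, ?_⟩
        rw [h.toFunctor.map_comp, eτ, hσβ])
      (by
        intro z y χ α β hαβ
        rw [h.toFunctor.map_comp, h.toFunctor.map_comp, Category.assoc, hαβ])
      (by
        intro V t ht y α β β' _ _ _ e1 e2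
        exact faithful_of_autBij haut hs'.1 hs.1 (e1.symm.trans e2))
    have hhb : h.map b = φ.hom := by
      refine K895.Glue.glue_unique hs.1 (hsp.2 R hR) (h.map b) φ.hom (h.preserves_isHomLift (𝟙 T) b) (hφ.lift rfl)
        fun V t ht => ?_
      obtain ⟨z, α, β, hα, hβ⟩ := hloc t ht
      refine ⟨h.obj z, h.map α, h.preserves_isHomLift t α, ?_⟩
      have := hbP t ht α hα
      rw [this, h.toFunctor.map_comp]
    refine ⟨b ≫ c, ?_⟩
    refine homFp_ext ?_ ?_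
    · change h.map (b ≫ c) = k1
      rw [h.toFunctor.map_comp, hhb, hφc]
    · change π'.map (b ≫ c) = k2
      have h5 : 𝒳'.p.IsHomLift f (b ≫ c) := IsHomLift.comp_lift_id_left 𝒳'.p f c b
      exact K746.eq_of_lift (isFibSetoid_ofPsh _) (f := f) (π'.preserves_isHomLift f (b ≫ c)) hk2
  refine K751.FF.isEquivOver_of_locEssSurj hs' hP (FibCat.fpLift h π' e) ?_
  intro y
  let T := 𝒳.p.obj y.obj.fst
  have hyT : (AlgSt.ofSp M').p.obj y.obj.snd = T := (FibCat.fpSnd π (AlgSt.ofSpMap g)).w_obj y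
  obtain ⟨s, hs1⟩ := exists_sec (BasedFunctor.id (AlgSt.ofSp M')) y.obj.snd hyT
  have hs1 : y.obj.snd = ⟨T, s⟩ := hs1
  have h1 : (shDesc hs.1 π).hom.app (op T) (cl hs.1 y.obj.fst rfl) = g.hom.app (op T) s := by
    rw [shDesc_cl]
    refine secOf_eq π rfl ((eq_of_vert (iso_vert y)).trans ?_)
    rw [hs1]
    rfl
  obtain ⟨a, ha1, ha2⟩ := hlift T _ s h1
  let R : Sieve T :=
    { arrows := fun V t => ∃ (w : 𝒳'.obj) (κ : h.obj w ⟶ y.obj.fst), 𝒳.p.IsHomLift t κ ∧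
        π'.obj w = ⟨V, M'.obj.map t.op s⟩
      downward_closed := by
        rintro V V' t ⟨w, κ, hκ, hw⟩ t'
        have hwV : 𝒳'.p.obj w = V := (h.w_obj w).symm.trans (IsHomLift.domain_eq 𝒳.p t κ)
        obtain ⟨w', m, hm⟩ := exists_lift hs'.1 hwV t'
        have hw'V : 𝒳'.p.obj w' = V' := IsHomLift.domain_eq 𝒳'.p t' m
        have h2 : 𝒳.p.IsHomLift t' (h.map m) := h.preserves_isHomLift t' m
        refine ⟨w', h.map m ≫ κ, inferInstance, ?_⟩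
        rw [map_comp_apply, secOf_spec π' w' hw'V, ← secOf_map π' hwV hw'V hm, secOf_eq π' hwV hw] }
  refine ⟨R, ?_, ?_⟩
  · obtain ⟨R₁, hR₁, hl⟩ := exists_local hs'.1 a
    obtain ⟨κ, V, v, hv, hvR⟩ := exists_fam_of_mem hR₁
    refine mem_of_fam hv fun k => ?_
    obtain ⟨w, hw, ew⟩ := hl (v k) (hvR k)
    obtain ⟨x', m, hm⟩ := exists_lift hs.1 (a := y.obj.fst) (T := T) rfl (v k)
    have hx' : 𝒳.p.obj x' = V k := IsHomLift.domain_eq 𝒳.p (v k) m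
    have h2 : cl hs.1 (h.obj w) ((h.w_obj w).trans hw) = cl hs.1 x' hx' := by
      rw [← shMap_cl hs'.1 hs.1 h w hw, ew, app_map, ha1, cl_map hs.1 rfl hx' hm]
    obtain ⟨R₂, hR₂, hl2⟩ := exists_of_cl_eq hs.1 h2
    refine (J S).superset_covering ?_ hR₂
    intro V' t ht
    obtain ⟨z, α, β, hα, hβ⟩ := hl2 t ht
    obtain ⟨w', m', hm'⟩ := exists_lift hs'.1 hw t
    have hw' : 𝒳'.p.obj w' = V' := IsHomLift.domain_eq 𝒳'.p t m'
    obtain ⟨θ, hθ, -⟩ := exists_iso_of_lift hs.1 (h.preserves_isHomLift t m') hα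
    have h3 : 𝒳.p.IsHomLift (𝟙 V') θ.hom := hθ.lift ((h.w_obj w').trans hw')
    have h4 : 𝒳.p.IsHomLift t (θ.hom ≫ β) := IsHomLift.comp_lift_id_left 𝒳.p t β θ.hom
    refine ⟨w', (θ.hom ≫ β) ≫ m, inferInstance, ?_⟩
    rw [map_comp_apply, secOf_spec π' w' hw', ← secOf_map π' hw hw' hm', ← shDesc_cl hs'.1 π' w hw, ew, app_map,
      ha2]
  · rintro V t ⟨w, κ, hκ, hw⟩
    obtain ⟨b, β, hβ⟩ := exists_lift (isFibGrpd_ofSp M') hyT t
    have hb : b = π'.obj w := by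
      have hbV : (AlgSt.ofSp M').p.obj b = V := IsHomLift.domain_eq (AlgSt.ofSp M').p t β
      obtain ⟨s', hs'⟩ := exists_sec (BasedFunctor.id (AlgSt.ofSp M')) b hbV
      have hs' : b = ⟨V, s'⟩ := hs'
      rw [hs', hw, elt_map hβ hs1 hs']
    subst hb
    have h6 : 𝒳.p.IsHomLift t (show h.obj w ⟶ y.obj.fst from κ) := hκ
    let K : (FibCat.fpLift h π' e).obj w ⟶ y := mkHomFp (a := (FibCat.fpLift h π' e).obj w) (b := y) κ β (by
      have v1 : (AlgSt.ofSp M).p.IsHomLift t (π.map κ ≫ y.obj.iso.hom) := by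
        have h7 : (AlgSt.ofSp M).p.IsHomLift t (π.map κ) := π.preserves_isHomLift t κ
        have h8 : (AlgSt.ofSp M).p.IsHomLift (𝟙 T) y.obj.iso.hom := (iso_vert y).lift (π.w_obj _)
        exact @IsHomLift.comp_lift_id_right (Over S) (AlgSt.ofSp M).obj _ _ (AlgSt.ofSp M).p _ _ _ V T t (π.map κ)
          h7 y.obj.iso.hom h8
      have v2 : (AlgSt.ofSp M).p.IsHomLift t (((FibCat.fpLift h π' e).obj w).obj.iso.hom ≫ (AlgSt.ofSpMap g).map β) := by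
        have h7 : (AlgSt.ofSp M).p.IsHomLift t ((AlgSt.ofSpMap g).map β) :=
          (AlgSt.ofSpMap g).preserves_isHomLift t β
        have h9 : 𝒳.p.obj (h.obj w) = V := IsHomLift.domain_eq 𝒳.p t κ
        have h8 : (AlgSt.ofSp M).p.IsHomLift (𝟙 V) ((FibCat.fpLift h π' e).obj w).obj.iso.hom :=
          (iso_vert ((FibCat.fpLift h π' e).obj w)).lift ((π.w_obj _).trans h9)
        exact IsHomLift.comp_lift_id_left (AlgSt.ofSp M).p t ((AlgSt.ofSpMap g).map β) _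
      exact K746.eq_of_lift (isFibSetoid_ofPsh _) (f := t) v1 v2)
    exact ⟨w, K, (fp_isHomLift_iff_fst t K).2 hκ⟩

end EQ

end K161.KM
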