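import Groth.Agent.AlgSt.K739.PtLift
import Groth.Agent.AlgSt.K739.Props
import Groth.Agent.AlgSt.K740.Second
import Groth.Agent.AlgSt.K740.SpIso
import Groth.Agent.AlgSt.K746.UHomeo
import Groth.Agent.S10536
import Groth.Agent.AlgSp.K597.Proper
import Groth.Agent.AlgSt.K734.Rep
import Groth.Agent.AlgSt.K608.KMGeom

/-!
# Properties of morphisms of algebraic stacks local on the target for étale families

* `isSeparatedMor_of_isEquivOver`, `isSeparatedMor_comp`, `isSeparatedMor_fpSnd`;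
* `isSeparatedMor_of_local`, `isUnivHomeo_of_local`.
-/

set_option autoImplicit false
set_option backward.isDefEq.respectTransparency false
set_option backward.isDefEq.respectTransparency.types false
universe u
open CategoryTheory CategoryTheory.Limits AlgebraicGeometry Opposite AlgSp

namespace K161.KM

open K734.Fib K739 K739.Descent

variable {S : Scheme.{u}}

section Basic

variable {𝒳 𝒴 𝒵 : AlgSt.Cat S}

theorem isProperMor_id (U : Over S) : AlgSp.IsProperMor (𝟙 ((yon S).obj U)) := by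
  have h : AlgSp.IsProperMor ((yon S).map (𝟙 U)) :=
    (K597.Proper.isProperMor_iff_repWith (IsAlgSpace.yon_obj U) (representable_yon_map _)).2
      ((repWith_yon_map_iff _ _).2 (inferInstanceAs (IsProper (𝟙 U.left))))
  rwa [CategoryTheory.Functor.map_id] at h

theorem isSeparatedMor_of_isEquivOver {F : 𝒳 ⥤ᵇ 𝒴} (hF : FibCat.IsEquivOver F) : AlgSt.IsSeparatedMor F := by
  have h1 := full_of hF
  have h2 := faithful_of hF
  exact K740.SpIso.repByAlgSpWith_of_isEquivOver (P := IsProperMor) isProperMor_id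
    (K740.Second.isEquivOver_diag_of_fullyFaithful F)

theorem isSeparatedMor_comp (h𝒳 : FibCat.IsFibGrpd 𝒳.p) (h𝒴 : FibCat.IsFibGrpd 𝒴.p) (h𝒵 : FibCat.IsFibGrpd 𝒵.p)
    {f : 𝒳 ⥤ᵇ 𝒴} {g : 𝒴 ⥤ᵇ 𝒵} (hf : AlgSt.IsSeparatedMor f) (hg : AlgSt.IsSeparatedMor g) :
    AlgSt.IsSeparatedMor (BasedFunctor.comp f g) :=
  K739.DiagComp.repByAlgSpWith_diag_comp h𝒳 h𝒴 h𝒵 f g K739.Props.bc_proper K739.Props.comp_proper
    K739.Props.fppfDesc_proper.etDesc hf hg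

/-- Composition with equivalences. -/
theorem isSeparatedMor_equiv_comp (h𝒳 : FibCat.IsFibGrpd 𝒳.p) (h𝒴 : FibCat.IsFibGrpd 𝒴.p) (h𝒵 : FibCat.IsFibGrpd 𝒵.p)
    {e : 𝒳 ⥤ᵇ 𝒴} (he : FibCat.IsEquivOver e) {g : 𝒴 ⥤ᵇ 𝒵} (hg : AlgSt.IsSeparatedMor g) :
    AlgSt.IsSeparatedMor (BasedFunctor.comp e g) :=
  isSeparatedMor_comp h𝒳 h𝒴 h𝒵 (isSeparatedMor_of_isEquivOver he) hg

theorem isSeparatedMor_congr (h𝒳 : FibCat.IsFibGrpd 𝒳.p) (h𝒴 : FibCat.IsFibGrpd 𝒴.p) {f g : 𝒳 ⥤ᵇ 𝒴} (e : f ≅ g)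
    (hf : AlgSt.IsSeparatedMor f) : AlgSt.IsSeparatedMor g :=
  K739.DiagComp.repByAlgSpWith_diag_congr e.symm h𝒳 h𝒴 hf

/-- The second projection. -/
theorem isSeparatedMor_fpSnd (h𝒳 : FibCat.IsFibGrpd 𝒳.p) (h𝒴 : FibCat.IsFibGrpd 𝒴.p) (h𝒵 : FibCat.IsFibGrpd 𝒵.p)
    (f : 𝒳 ⥤ᵇ 𝒵) (g : 𝒴 ⥤ᵇ 𝒵) (h : AlgSt.IsSeparatedMor (FibCat.fpFst g f)) :
    AlgSt.IsSeparatedMor (FibCat.fpSnd f g) :=
  isSeparatedMor_congr (isFibGrpd_fp _ _ h𝒳 h𝒴 h𝒵) h𝒴 (Iso.refl _)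
    (isSeparatedMor_equiv_comp (isFibGrpd_fp f g h𝒳 h𝒴 h𝒵) (isFibGrpd_fp g f h𝒴 h𝒳 h𝒵) h𝒴
      (isEquivOver_fpSwap f g) h)

end Basic

section Diag

open K739.Psh K739.Rep K739.Isom K739.Diag K739.DiagComp K739.Props K739.Alg

variable {𝒳 𝒴 : AlgSt.Cat S}

/-- `P(diag f)` can be tested étale locally (families). -/
theorem repByAlgSpWith_diag_of_fam {P : MorphismProperty (AlgSp.Sp S)} (hP : IsoInv P)
    (hPl : AlgSp.IsLocalOnBase AlgSp.IsFppfCover P)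
    (h𝒳 : FibCat.IsFibGrpd 𝒳.p) (h𝒴 : FibCat.IsFibGrpd 𝒴.p) (f : 𝒳 ⥤ᵇ 𝒴)
    (hf : AlgSt.RepByAlgSp1 (FibCat.diag f))
    (h : ∀ (U : Over S) (x₁ x₂ : FibCat.overCat U ⥤ᵇ 𝒳) (φ : BasedFunctor.comp x₁ f ≅ BasedFunctor.comp x₂ f)
      (t : ↥U.left), ∃ (V : Over S) (k : V ⟶ U), Etale k.left ∧ t ∈ Set.range k.left ∧
        RepPsh P (toBase f (BasedFunctor.comp (AlgSt.overMap k) x₁) (BasedFunctor.comp (AlgSt.overMap k) x₂)
          (resIso f k x₁ x₂ φ) h𝒳 h𝒴)) : AlgSt.RepByAlgSpWith P (FibCat.diag f) := by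
  rw [repByAlgSpWith_diag_iff P _ h𝒳 h𝒴]
  intro U x₁ x₂ φ
  obtain ⟨h1, h2, -⟩ := (repPsh_iff isoInv_top _).1
    ((repByAlgSpWith_diag_iff ⊤ f h𝒳 h𝒴).1 (repByAlgSpWith_top hf) U x₁ x₂ φ)
  choose V k hk ht hV using h U x₁ x₂ φ
  have hk3 := fun t => (repPsh_iff hP _).1 (hV t)
  choose k1 k2 k3 using hk3
  refine repPsh_of _ h1 h2 ?_
  have sq := fun t => isPullback_homMk (isPullback_restrict f (k t) x₁ x₂ φ h𝒳 h𝒴) (k1 t) h1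
    ((AlgSp.yon S).obj (V t)).property ((AlgSp.yon S).obj U).property
  refine (hPl (fun t => (AlgSp.yon S).obj (V t)) (fun t => (AlgSp.yon S).map (k t)) (AlgSp.IsAlgSpace.yon_obj U)
    (fun t => AlgSp.IsAlgSpace.yon_obj _) ⟨fun t => ⟨?_, ?_⟩, fun x => ?_⟩ _ h2 _ _ _ k2 sq).2 k3
  · have := hk t
    exact K597.locP_of_repWith (P := @Flat) (fun A B C e f he hf => by
      have : Etale e := he
      have : Flat f := hf
      exact (inferInstance : Flat (e ≫ f))) ((AlgSp.repWith_yon_map_iff _ _).2 (inferInstance : Flat (k t).left))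
  · have := hk t
    exact K597.locP_of_repWith (P := @LocallyOfFinitePresentation) (fun A B C e f he hf => by
      have : Etale e := he
      have : LocallyOfFinitePresentation f := hf
      exact (inferInstance : LocallyOfFinitePresentation (e ≫ f)))
      ((AlgSp.repWith_yon_map_iff _ _).2 (inferInstance : LocallyOfFinitePresentation (k t).left))
  · obtain ⟨t, rfl⟩ := (AlgSp.Points.schemeEquiv U).surjective x
    obtain ⟨y, hy⟩ := ht t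
    exact ⟨t, AlgSp.Points.ofScheme _ y, by
      have := AlgSp.Points.map_yon_map_apply (k t) y
      rw [hy] at this
      exact this⟩

/-- Étale descent (families) of properties of the diagonal. -/
theorem repByAlgSpWith_diag_of_family {P : MorphismProperty (AlgSp.Sp S)} (hP : IsoInv P)
    (hPl : AlgSp.IsLocalOnBase AlgSp.IsFppfCover P) (h𝒳 : FibCat.IsFibGrpd 𝒳.p) (h𝒴 : FibCat.IsFibGrpd 𝒴.p)
    (f : 𝒳 ⥤ᵇ 𝒴) (hf : AlgSt.RepByAlgSp1 (FibCat.diag f)) {ι : Type u} {𝒲 : ι → AlgSt.Cat S}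
    (h𝒲 : ∀ i, FibCat.IsFibGrpd (𝒲 i).p) (w : ∀ i, 𝒲 i ⥤ᵇ 𝒴)
    (hw : ∀ i, AlgSt.RepByAlgSpWith (AlgSp.LocP @Etale) (w i))
    (hs : ∀ y : AlgSt.Points 𝒴, ∃ i, y ∈ Set.range (AlgSt.Points.map (w i)))
    (h : ∀ i, AlgSt.RepByAlgSpWith P (FibCat.diag (FibCat.fpFst (w i) f))) :
    AlgSt.RepByAlgSpWith P (FibCat.diag f) := by
  have h𝒱 := fun i => K735.Fp.isFibGrpd_fp (h𝒲 i) h𝒳 h𝒴 (w i) f
  refine repByAlgSpWith_diag_of_fam hP hPl h𝒳 h𝒴 f hf fun U x₁ x₂ φ t => ?_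
  obtain ⟨i, hi⟩ := hs (AlgSt.Points.ofChart (BasedFunctor.comp x₁ f) t)
  obtain ⟨V, k, v, hk, ht, ⟨ι⟩⟩ := K739.PtLift.exists_lift_at (h𝒲 i) h𝒴 (w i) (hw i) (BasedFunctor.comp x₁ f) t hi
  refine ⟨V, k, hk, ht, ?_⟩
  let z₁ : FibCat.overCat V ⥤ᵇ FibCat.fp (w i) f := FibCat.fpLift v (BasedFunctor.comp (AlgSt.overMap k) x₁) ι
  let z₂ : FibCat.overCat V ⥤ᵇ FibCat.fp (w i) f := FibCat.fpLift v (BasedFunctor.comp (AlgSt.overMap k) x₂)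
    (ι ≪≫ resIso f k x₁ x₂ φ)
  let θ : BasedFunctor.comp z₁ (FibCat.fpFst (w i) f) ≅ BasedFunctor.comp z₂ (FibCat.fpFst (w i) f) := Iso.refl v
  have h1 : bcIso (w i) f z₁ z₂ θ = resIso f k x₁ x₂ φ := by
    apply Iso.ext
    apply BasedNatTrans.homCategory.ext
    ext a
    exact iso_aux (appIso ι a) ((resIso f k x₁ x₂ φ).hom.toNatTrans.app a) ((w i).map (𝟙 (v.obj a))) ((w i).map_id _)
  have h2 : RepPsh P (toBase (FibCat.fpFst (w i) f) z₁ z₂ θ (h𝒱 i) (h𝒲 i)) :=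
    (repByAlgSpWith_diag_iff P _ (h𝒱 i) (h𝒲 i)).1 (h i) V z₁ z₂ θ
  have h3 : RepPsh P (toBase f _ _ (bcIso (w i) f z₁ z₂ θ) h𝒳 h𝒴) :=
    h2.of_iso (bcPshIso (w i) f z₁ z₂ θ h𝒳 h𝒴 (h𝒲 i) (h𝒱 i)) (bcPshIso_toBase (w i) f z₁ z₂ θ h𝒳 h𝒴 (h𝒲 i) (h𝒱 i))
  rw [h1] at h3
  exact h3

/-- Separatedness is étale local on the target. -/
theorem isSeparatedMor_of_local (h𝒳 : AlgSt.IsAlgStack Scheme.fppfPrecoverage 𝒳)
    (h𝒴 : AlgSt.IsAlgStack Scheme.fppfPrecoverage 𝒴)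
    (f : 𝒳 ⥤ᵇ 𝒴) {ι : Type u} {𝒲 : ι → AlgSt.Cat S}
    (h𝒲 : ∀ i, FibCat.IsFibGrpd (𝒲 i).p) (w : ∀ i, 𝒲 i ⥤ᵇ 𝒴)
    (hw : ∀ i, AlgSt.RepByAlgSpWith (AlgSp.LocP @Etale) (w i))
    (hs : ∀ y : AlgSt.Points 𝒴, ∃ i, y ∈ Set.range (AlgSt.Points.map (w i)))
    (h : ∀ i, AlgSt.IsSeparatedMor (FibCat.fpFst (w i) f)) : AlgSt.IsSeparatedMor f :=
  repByAlgSpWith_diag_of_family (K739.Rep.isoInv_of_baseChange _ K739.Props.bc_proper)
    (K739.Props.isLocalOnBase_fppf_of_fpqc (Groth.Agent.S10536.result S)) h𝒳.isStack.1 h𝒴.isStack.1 f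
    (K739.Alg.repByAlgSp1_diag_of_isAlgStack h𝒳 h𝒴 f) h𝒲 w hw hs h

end Diag

section Homeo

variable {𝒳 𝒴 : AlgSt.Cat S}

theorem isHomeomorph_of_local {W Z : Type*} [TopologicalSpace W] [TopologicalSpace Z] {ι : Type*} {W' Z' : ι → Type*}
    [∀ i, TopologicalSpace (W' i)] [∀ i, TopologicalSpace (Z' i)] {F : W → Z} {F' : ∀ i, W' i → Z' i}
    {p : ∀ i, Z' i → Z} {q : ∀ i, W' i → W} (hF : Continuous F) (hF' : ∀ i, IsHomeomorph (F' i))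
    (hp : ∀ i, IsOpenMap (p i)) (hq : ∀ i, Continuous (q i)) (hs : ∀ z, ∃ i ζ, p i ζ = z)
    (hc : ∀ i t, p i (F' i t) = F (q i t)) (hl : ∀ i ζ x, p i ζ = F x → ∃ t, F' i t = ζ ∧ q i t = x) :
    IsHomeomorph F := by
  refine ⟨hF, fun D hD => ?_, fun x y hxy => ?_, fun z => ?_⟩
  · have : F '' D = ⋃ i, p i '' (F' i '' (q i ⁻¹' D)) := by
      ext z
      simp only [Set.mem_image, Set.mem_iUnion, Set.mem_preimage]
      constructor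
      · rintro ⟨x, hx, rfl⟩
        obtain ⟨i, ζ, hζ⟩ := hs (F x)
        obtain ⟨t, rfl, rfl⟩ := hl i ζ x hζ
        exact ⟨i, _, ⟨t, hx, rfl⟩, hζ⟩
      · rintro ⟨i, _, ⟨t, ht, rfl⟩, rfl⟩
        exact ⟨q i t, ht, (hc i t).symm⟩
    rw [this]
    exact isOpen_iUnion fun i => hp i _ ((hF' i).isOpenMap _ (hD.preimage (hq i)))
  · obtain ⟨i, ζ, hζ⟩ := hs (F x)
    obtain ⟨t, ht, rfl⟩ := hl i ζ x hζ
    obtain ⟨t', ht', rfl⟩ := hl i ζ y (hζ.trans hxy)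
    rw [(hF' i).injective (ht.trans ht'.symm)]
  · obtain ⟨i, ζ, rfl⟩ := hs z
    obtain ⟨t, rfl⟩ := (hF' i).surjective ζ
    exact ⟨q i t, (hc i t).symm⟩

theorem homeo_of_equiv {𝒜 ℬ 𝒞 : AlgSt.Cat S} {E : 𝒜 ⥤ᵇ ℬ} (hE : FibCat.IsEquivOver E) {p : ℬ ⥤ᵇ 𝒞} {q : 𝒜 ⥤ᵇ 𝒞}
    (e : BasedFunctor.comp E p ≅ q) (h : IsHomeomorph (AlgSt.Points.map p)) : IsHomeomorph (AlgSt.Points.map q) := by
  have h1 : AlgSt.Points.map q = AlgSt.Points.map p ∘ AlgSt.Points.map E := by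
    funext w
    rw [Function.comp_apply, ← K735.Pts.map_comp]
    exact (K735.Pts.map_congr e w).symm
  rw [h1]
  exact h.comp (K735.Univ.isHomeomorph_map_of_isEquivOver hE)

theorem homeo_iff {𝒜 ℬ 𝒞 : AlgSt.Cat S} {E : 𝒜 ⥤ᵇ ℬ} (hE : FibCat.IsEquivOver E) {p : ℬ ⥤ᵇ 𝒞} {q : 𝒜 ⥤ᵇ 𝒞}
    (e : BasedFunctor.comp E p ≅ q) : IsHomeomorph (AlgSt.Points.map q) ↔ IsHomeomorph (AlgSt.Points.map p) := by
  refine ⟨fun h => ?_, homeo_of_equiv hE e⟩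
  obtain ⟨G, hG, -, ⟨β⟩⟩ := exists_inverse hE
  exact homeo_of_equiv hG ((wl G e).symm ≪≫ wr β p) h

/-- Universal homeomorphisms are étale local on the target. -/
theorem isUnivHomeo_of_local (h𝒳 : AlgSt.IsAlgStack Scheme.fppfPrecoverage 𝒳)
    (h𝒴 : AlgSt.IsAlgStack Scheme.fppfPrecoverage 𝒴)
    (f : 𝒳 ⥤ᵇ 𝒴) {ι : Type u} {𝒲 : ι → AlgSt.Cat S}
    (h𝒲 : ∀ i, AlgSt.IsAlgStack Scheme.fppfPrecoverage (𝒲 i)) (w : ∀ i, 𝒲 i ⥤ᵇ 𝒴)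
    (hw : ∀ i, AlgSt.RepByAlgSpWith (AlgSp.LocP @Etale) (w i))
    (hs : ∀ y : AlgSt.Points 𝒴, ∃ i, y ∈ Set.range (AlgSt.Points.map (w i)))
    (h : ∀ i, AlgSt.IsUnivHomeo Scheme.fppfPrecoverage (FibCat.fpFst (w i) f)) :
    AlgSt.IsUnivHomeo Scheme.fppfPrecoverage f := by
  intro 𝒵 h𝒵 z
  have a1 := K746.UHomeo.alg_fp h𝒵 h𝒳 h𝒴 z f
  have a2 := fun i => K746.UHomeo.alg_fp h𝒵 (h𝒲 i) h𝒴 z (w i)
  have a3 := fun i => K746.UHomeo.alg_fp (a2 i) a1 h𝒵 (FibCat.fpFst z (w i)) (FibCat.fpFst z f)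
  refine isHomeomorph_of_local
    (F' := fun i => AlgSt.Points.map (FibCat.fpFst (FibCat.fpFst z (w i)) (FibCat.fpFst z f)))
    (p := fun i => AlgSt.Points.map (FibCat.fpFst z (w i)))
    (q := fun i => AlgSt.Points.map (FibCat.fpSnd (FibCat.fpFst z (w i)) (FibCat.fpFst z f)))
    (K735.Top.continuous_map (K735.Top.chartCont_of_isAlgStack h𝒵) _) (fun i => ?_) (fun i => ?_) (fun i => ?_) ?_ ?_ ?_
  · refine (homeo_iff (q := FibCat.fpFst (BasedFunctor.comp (FibCat.fpFst z (w i)) z) f)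
      (isEquivOver_fpPaste (FibCat.fpFst z (w i)) z f) (Iso.refl _)).1 ?_
    refine (homeo_iff (q := FibCat.fpFst (BasedFunctor.comp (FibCat.fpSnd z (w i)) (w i)) f)
      (isEquivOver_fpCongrL (FibCat.fpIso z (w i)) f) (Iso.refl _)).1 ?_
    exact homeo_of_equiv (isEquivOver_fpPaste (FibCat.fpSnd z (w i)) (w i) f) (Iso.refl _)
      (h i _ (a2 i) (FibCat.fpSnd z (w i)))
  · refine K735.Top.isOpenMap_map (P := @Etale) (fun A B g hg => ?_) h𝒵.isStack.1 (a2 i).isStack.1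
      (K735.Top.chartCont_of_isAlgStack (a2 i)) (K734.Rep.repByAlgSpWith_fpFst _ (w i) z (hw i))
    have : Etale g := hg
    exact g.isOpenMap
  · exact K735.Top.continuous_map (K735.Top.chartCont_of_isAlgStack a1) _
  · intro y
    obtain ⟨i, x, hx⟩ := hs (AlgSt.Points.map z y)
    obtain ⟨t, ht, -⟩ := K735.Pts.exists_fp (h𝒲 i).isStack.1 h𝒵.isStack.1 h𝒴.isStack.1 z (w i) y x hx.symm
    exact ⟨i, t, ht⟩
  · intro i t
    rw [← K735.Pts.map_comp, ← K735.Pts.map_comp]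
    exact K735.Pts.map_congr (FibCat.fpIso (FibCat.fpFst z (w i)) (FibCat.fpFst z f)) t
  · intro i ζ x hx
    exact K735.Pts.exists_fp a1.isStack.1 (a2 i).isStack.1 h𝒵.isStack.1 _ _ ζ x hx

end Homeo

end K161.KM
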