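import Groth.Agent.AlgSt.K161.CartInv
import Groth.Agent.AlgSt.K739.PtLift
import Groth.Agent.AlgSt.K736.QC
import Groth.Agent.S16702
import Groth.Agent.S12952
import Groth.Agent.AlgSt.K161.LocTgt

/-!
# The gluing datum of a covering by well-nigh affine stacks

* `jsurj_shMap` : étale families surjective on points are locally surjective on isomorphism classes;
* `Cov 𝒳` : a covering family of well-nigh affine stacks; `exists_cov`;
* `Cov.exists_gd` : the gluing datum.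
-/

set_option autoImplicit false
set_option backward.isDefEq.respectTransparency false
set_option backward.isDefEq.respectTransparency.types false
universe u
open CategoryTheory CategoryTheory.Limits AlgebraicGeometry Opposite AlgSp

namespace K161.KM

open K594.Elem K594.Cover K734.Fib

variable {S : Scheme.{u}}

section JS

variable {𝒳 : AlgSt.Cat S} {ι : Type u} {X : ι → AlgSt.Cat S}

/-- Families which are étale and surjective on points are locally surjective on isomorphism classes. -/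
theorem jsurj_shMap (h𝒳 : FibCat.IsFibGrpd 𝒳.p) (hX : ∀ i, FibCat.IsFibGrpd (X i).p) (g : ∀ i, X i ⥤ᵇ 𝒳)
    (het : ∀ i, AlgSt.RepByAlgSpWith (LocP @Etale) (g i))
    (hc : ∀ x : AlgSt.Points 𝒳, ∃ i, x ∈ Set.range (AlgSt.Points.map (g i))) :
    JSurj fun i => shMap (hX i) h𝒳 (g i) := by
  intro T s
  obtain ⟨κ, V, v, hv, x, hx, hx'⟩ := exists_fam h𝒳 s
  have key : ∀ (kt : Σ k : κ, ↥(V k).left), ∃ (i : ι) (W : Over S) (w : W ⟶ V kt.1) (z : (X i).obj)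
      (hz : (X i).p.obj z = W), Etale w.left ∧ kt.2 ∈ Set.range w.left ∧
      cl h𝒳 ((g i).obj z) (((g i).w_obj z).trans hz) = (Sh h𝒳).obj.map w.op (cl h𝒳 (x kt.1) (hx kt.1)) := by
    rintro ⟨k, t⟩
    obtain ⟨i, hi⟩ := hc (AlgSt.Points.ofChart (yo h𝒳 (x k) (hx k)) t)
    obtain ⟨W, w, u, hw, ht, ⟨e⟩⟩ := K739.PtLift.exists_lift_at (hX i) h𝒳 (g i) (het i) (yo h𝒳 (x k) (hx k)) t hi
    refine ⟨i, W, w, u.obj (one W), u.w_obj _, hw, ht, ?_⟩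
    let φ₁ : (g i).obj (u.obj (one W)) ⟶ (yo h𝒳 (x k) (hx k)).obj ((AlgSt.overMap w).obj (one W)) := (app e (one W)).hom
    let φ₂ : (yo h𝒳 (x k) (hx k)).obj ((AlgSt.overMap w).obj (one W)) ⟶ (yo h𝒳 (x k) (hx k)).obj (one (V k)) :=
      (yo h𝒳 (x k) (hx k)).map (toOne _)
    let φ₃ : (yo h𝒳 (x k) (hx k)).obj (one (V k)) ⟶ x k := (yoIso h𝒳 (x k) (hx k)).hom
    have l1 : 𝒳.p.IsHomLift (𝟙 W) φ₁ := (app_vert e (one W)).lift (((g i).w_obj _).trans (u.w_obj _))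
    have l2 : 𝒳.p.IsHomLift w φ₂ := by
      have h1 : (FibCat.overCat (V k)).p.IsHomLift w (toOne ((AlgSt.overMap w).obj (one W))) := by
        have h2 : (FibCat.overCat (V k)).p.map (toOne ((AlgSt.overMap w).obj (one W))) = w := by
          change 𝟙 W ≫ w = w
          rw [Category.id_comp]
        have h3 := IsHomLift.map (FibCat.overCat (V k)).p (toOne ((AlgSt.overMap w).obj (one W)))
        rwa [h2] at h3
      exact (yo h𝒳 (x k) (hx k)).preserves_isHomLift w _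
    have l3 : 𝒳.p.IsHomLift (𝟙 (V k)) φ₃ := (yoIso_vert h𝒳 (x k) (hx k)).lift ((yo h𝒳 (x k) (hx k)).w_obj _)
    have l4 : 𝒳.p.IsHomLift w (φ₁ ≫ φ₂) := IsHomLift.comp_lift_id_left 𝒳.p w φ₂ φ₁
    have l5 : 𝒳.p.IsHomLift w ((φ₁ ≫ φ₂) ≫ φ₃) := IsHomLift.comp_lift_id_right 𝒳.p w (φ₁ ≫ φ₂) φ₃
    exact (cl_map h𝒳 (hx k) _ l5).symm
  choose i W w z hz hw ht hcl using key
  refine ⟨Σ k : κ, ↥(V k).left, W, fun kt => w kt ≫ v kt.1, ⟨fun kt => ?_, fun kt => ?_, fun t => ?_⟩, i,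
    fun kt => cl (hX (i kt)) (z kt) (hz kt), fun kt => ?_⟩
  · have := hw kt
    have := hv.flat kt.1
    exact inferInstanceAs (Flat ((w kt).left ≫ (v kt.1).left))
  · have := hw kt
    have := hv.lfp kt.1
    exact inferInstanceAs (LocallyOfFinitePresentation ((w kt).left ≫ (v kt.1).left))
  · obtain ⟨k, y, rfl⟩ := hv.surj t
    obtain ⟨y', hy'⟩ := ht ⟨k, y⟩
    refine ⟨⟨k, y⟩, y', ?_⟩
    rw [Over.comp_left, Scheme.Hom.comp_apply]
    exact congrArg (v k).left hy'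
  · rw [shMap_cl, hcl, hx', ← map_comp_apply]

end JS

/-- A covering of `𝒳` by well-nigh affine stacks. -/
structure Cov (𝒳 : AlgSt.Cat S) where
  ι : Type u
  X : ι → AlgSt.Cat S
  g : ∀ i, X i ⥤ᵇ 𝒳
  alg : ∀ i, AlgSt.IsAlgStack Scheme.fppfPrecoverage (X i)
  wna : ∀ i, AlgSt.IsWellNighAffine (X i)
  et : ∀ i, AlgSt.RepByAlgSpWith IsEtaleMor (g i)
  sep : ∀ i, AlgSt.IsSeparatedMor (g i)
  aut : ∀ i, AutBij (g i)
  cov : ∀ x : AlgSt.Points 𝒳, ∃ i, x ∈ Set.range (AlgSt.Points.map (g i))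

theorem exists_cov {𝒳 : AlgSt.Cat S} (h𝒳 : AlgSt.IsAlgStack Scheme.fppfPrecoverage 𝒳)
    (h : ∀ x : AlgSt.Points 𝒳, ∃ (𝒳' : AlgSt.Cat S) (g : 𝒳' ⥤ᵇ 𝒳), x ∈ Set.range (AlgSt.Points.map g) ∧
      AlgSt.IsAlgStack Scheme.fppfPrecoverage 𝒳' ∧ AlgSt.IsWellNighAffine 𝒳' ∧
      (∀ x' : 𝒳'.obj, Function.Bijective (Gerb.autMap g x')) ∧
      AlgSt.RepByAlgSpWith AlgSp.IsEtaleMor g ∧ AlgSt.IsSeparatedMor g) : Nonempty (Cov 𝒳) := by
  obtain ⟨U, x, -, hxs⟩ := h𝒳.atlas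
  have hs := K736.QC.surjective_ofChart h𝒳 hxs
  choose X g h1 h2 h3 h4 h5 h6 using fun u : ↥U.left => h (AlgSt.Points.ofChart x u)
  exact ⟨{
    ι := ↥U.left
    X := X
    g := g
    alg := h2
    wna := h3
    et := h5
    sep := h6
    aut := fun i => (autBij_iff (h2 i).isStack.1 h𝒳.isStack.1 (g i)).2 (h4 i)
    cov := fun y => by
      obtain ⟨u, rfl⟩ := hs y
      exact ⟨u, h1 u⟩ }⟩

theorem etSep_of {M' M : Over S} (p : M' ⟶ M) (h1 : IsEtaleMor ((yon S).map p)) (h2 : IsSeparatedMor ((yon S).map p)) :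
    EtSep p.left :=
  ⟨(isEtaleMor_yon_map_iff p).1 h1, (repWith_yon_map_iff _ p).1
    ((K595.DiagBasic.isSeparatedMor_iff_repWith (representable_yon_map p)).1 h2)⟩

/-- The étale chart of the moduli space attached to an étale morphism to a well-nigh affine stack. -/
theorem exists_chart_of_etale {𝒳 𝒳' : AlgSt.Cat S} (h𝒳 : AlgSt.IsAlgStack Scheme.fppfPrecoverage 𝒳)
    (h𝒳' : AlgSt.IsAlgStack Scheme.fppfPrecoverage 𝒳') (hw : AlgSt.IsWellNighAffine 𝒳) (h : 𝒳' ⥤ᵇ 𝒳)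
    (het : AlgSt.RepByAlgSpWith IsEtaleMor h) (hsep : AlgSt.IsSeparatedMor h) (haut : AutBij h) {M : Over S}
    (π : 𝒳 ⥤ᵇ AlgSt.ofSch M) (hπ : AlgSt.IsCatModuli π) :
    ∃ (R : Over S) (ρ : Sh h𝒳'.isStack.1 ⟶ (yon S).obj R) (p : R ⟶ M),
      IsPullback (shMap h𝒳'.isStack.1 h𝒳.isStack.1 h) ρ (shDesc h𝒳.isStack.1 π) ((yon S).map p) ∧ EtSep p.left := by
  obtain ⟨R, ρ, g, e, h1, h2, h3⟩ := Groth.Agent.S16702.result S 𝒳 𝒳' h𝒳 h𝒳' hw h het hsep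
    ((autBij_iff h𝒳'.isStack.1 h𝒳.isStack.1 h).1 haut) _ π hπ
  obtain ⟨p, rfl⟩ := (yon S).map_surjective g
  exact ⟨R, shDesc h𝒳'.isStack.1 ρ, p, isPullback_of_isTwoCartOver _ _ h3, etSep_of p h1 h2⟩

section Overlap

variable {𝒳 : AlgSt.Cat S} (h𝒳 : AlgSt.IsAlgStack Scheme.fppfPrecoverage 𝒳) {X Y : AlgSt.Cat S}
  (hX : AlgSt.IsAlgStack Scheme.fppfPrecoverage X) (hY : AlgSt.IsAlgStack Scheme.fppfPrecoverage Y)

include h𝒳 hX hY

theorem alg_fp (f : X ⥤ᵇ 𝒳) (g : Y ⥤ᵇ 𝒳) : AlgSt.IsAlgStack Scheme.fppfPrecoverage (FibCat.fp f g) :=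
  K734.Rep.isAlgStack_fp (K734.Rep.isPrestack_of_isStack h𝒳.isStack) h𝒳.diag hX hY f g

/-- The overlap of two charts. -/
theorem exists_overlap (f : X ⥤ᵇ 𝒳) (g : Y ⥤ᵇ 𝒳) (fw : AlgSt.IsWellNighAffine X) (gw : AlgSt.IsWellNighAffine Y)
    (fe : AlgSt.RepByAlgSpWith IsEtaleMor f) (ge : AlgSt.RepByAlgSpWith IsEtaleMor g)
    (fs : AlgSt.IsSeparatedMor f) (gs : AlgSt.IsSeparatedMor g) (fa : AutBij f) (ga : AutBij g) {M N : Over S}
    (π : X ⥤ᵇ AlgSt.ofSch M) (hπ : AlgSt.IsUnifCatModuli π) (σ : Y ⥤ᵇ AlgSt.ofSch N) (hσ : AlgSt.IsUnifCatModuli σ)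
    (hP : FibCat.IsFibGrpd (FibCat.fp f g).p) :
    ∃ (R : Over S) (ρ : Sh hP ⟶ (yon S).obj R) (p : R ⟶ M) (q : R ⟶ N),
      IsPullback (shMap hP hX.isStack.1 (FibCat.fpFst f g)) ρ (shDesc hX.isStack.1 π) ((yon S).map p) ∧
      IsPullback (shMap hP hY.isStack.1 (FibCat.fpSnd f g)) ρ (shDesc hY.isStack.1 σ) ((yon S).map q) ∧
      EtSep p.left ∧ EtSep q.left := by
  have a1 := alg_fp h𝒳 hX hY f g
  have s1 : AlgSt.IsSeparatedMor (FibCat.fpFst f g) := Groth.Agent.S12952.result S Y 𝒳 X hY h𝒳 hX g f gs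
  have s2 : AlgSt.IsSeparatedMor (FibCat.fpSnd f g) := isSeparatedMor_fpSnd hX.isStack.1 hY.isStack.1 h𝒳.isStack.1 f g
    (Groth.Agent.S12952.result S X 𝒳 Y hX h𝒳 hY f g fs)
  obtain ⟨R, ρ, p, h1, h2⟩ := exists_chart_of_etale hX a1 fw (FibCat.fpFst f g)
    (K734.Rep.repByAlgSpWith_fpFst _ g f ge) s1 (AutBij.fpFst f ga) π hπ.1
  obtain ⟨R', ρ', q, h3, h4⟩ := exists_chart_of_etale hY a1 gw (FibCat.fpSnd f g)
    (K734.Rep.repByAlgSpWith_fpSnd _ f g fe) s2 (AutBij.fpSnd g fa) σ hσ.1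
  have u1 : Uni ρ := (((isUnifCatModuli_iff hX.isStack.1 π).1 hπ).2.bc (IsAlgSpace.yon_obj _) (IsAlgSpace.yon_obj _) h1
    (GD.locP_flat_of_etale p h2.1)).uni (IsAlgSpace.yon_obj _)
  have u2 : Uni ρ' := (((isUnifCatModuli_iff hY.isStack.1 σ).1 hσ).2.bc (IsAlgSpace.yon_obj _) (IsAlgSpace.yon_obj _) h3
    (GD.locP_flat_of_etale q h4.1)).uni (IsAlgSpace.yon_obj _)
  obtain ⟨a, ha, -⟩ := u1 _ (IsAlgSpace.yon_obj _) ρ'
  obtain ⟨b, hb, -⟩ := u2 _ (IsAlgSpace.yon_obj _) ρ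
  have hab : a ≫ b = 𝟙 _ := u1.hom_ext (IsAlgSpace.yon_obj _) (by rw [reassoc_of% ha, hb, Category.comp_id])
  have hba : b ≫ a = 𝟙 _ := u2.hom_ext (IsAlgSpace.yon_obj _) (by rw [reassoc_of% hb, ha, Category.comp_id])
  obtain ⟨a, rfl⟩ := (yon S).map_surjective a
  obtain ⟨b, rfl⟩ := (yon S).map_surjective b
  have hab' : a ≫ b = 𝟙 _ := (yon S).map_injective (by rw [Functor.map_comp, hab, CategoryTheory.Functor.map_id])
  have hba' : b ≫ a = 𝟙 _ := (yon S).map_injective (by rw [Functor.map_comp, hba, CategoryTheory.Functor.map_id])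
  let i : R ≅ R' := ⟨a, b, hab', hba'⟩
  refine ⟨R, ρ, p, a ≫ q, h1, ?_, h2, ?_⟩
  · refine IsPullback.of_iso h3 (Iso.refl _) (Iso.refl _) ((yon S).mapIso i).symm (Iso.refl _) ?_ ?_ ?_ ?_
    · simp
    · change ρ' ≫ (yon S).map b = 𝟙 _ ≫ ρ
      rw [hb, Category.id_comp]
    · simp
    · change (yon S).map q ≫ 𝟙 _ = (yon S).map b ≫ (yon S).map (a ≫ q)
      rw [Category.comp_id, ← Functor.map_comp, ← Category.assoc, hba', Category.id_comp]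
  · have hi : IsIso a := ⟨b, hab', hba'⟩
    have hi' : IsIso a.left := inferInstance
    obtain ⟨h5, h6⟩ := h4
    have h5' : Etale q.left := h5
    have h6' : IsSeparated q.left := h6
    rw [Over.comp_left]
    exact ⟨(inferInstance : Etale (a.left ≫ q.left)), (inferInstance : IsSeparated (a.left ≫ q.left))⟩

end Overlap

end K161.KM
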