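import Groth.Agent.AlgSt.K739.DiagComp
import Groth.Agent.AlgSt.K739.Sect
import Groth.Agent.AlgSt.K734.RepSp2
import Groth.Agent.AlgSt.K743.DiagBC
import Groth.Agent.AlgSt.K735.Fp
import Groth.Agent.AlgSp.K596.Pts
import Groth.Agent.AlgSp.K597.Chart

/-!
# Diagonals and generic properties

* `K161.DiagGen.etDesc_of_etCover` : etale locality on the base gives descent along one chart.
* `K161.DiagGen.repByAlgSp1_of_comp` : `f` is representable when `f ⋙ g` and the diagonal of `g` are.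
* `K161.DiagGen.repByAlgSpWith_diag_iff_slice` : the diagonal of `f` may be tested on base changes to schemes.
* `K161.DiagGen.repByAlgSpWith_diag_prod` : the diagonal of `𝒳 ×_𝒵 𝒴 ⟶ 𝒳' ×_𝒵 𝒴'`.
-/

set_option autoImplicit false
set_option linter.unusedVariables false
set_option backward.isDefEq.respectTransparency false
set_option backward.isDefEq.respectTransparency.types false

universe w₄ v₄ w₃ v₃ w₂ v₂ w₁ v₁ w' v' w v u

open CategoryTheory CategoryTheory.Limits AlgebraicGeometry Opposite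

namespace K161.DiagGen

open K739.Psh K739.Rep K739.Isom K739.Diag K739.DiagComp

section Et

variable {S : Scheme.{u}}

/-- An etale surjective chart is an etale covering. -/
theorem isEtCover_single {Y : AlgSp.Sp S} {V : Over S} (p : (AlgSp.yon S).obj V ⟶ Y)
    (hp : AlgSp.RepWith @Etale p) (hp' : AlgSp.RepWith @Surjective p) :
    AlgSp.IsEtCover (fun _ : PUnit.{u+1} => (AlgSp.yon S).obj V) (fun _ => p) := by
  refine ⟨fun _ => ?_, fun x => ⟨⟨⟩, ?_⟩⟩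
  · intro U φ hφ
    exact K597.repWith_comp @Etale hφ hp
  · exact K596.Pts.surjective_of_repWith hp' x

theorem etDesc_of_etCover {P : MorphismProperty (AlgSp.Sp S)} (h : AlgSp.IsLocalOnBase AlgSp.IsEtCover P) :
    EtDesc P := by
  intro X Y Q V hX hY hQ a p fst snd hp hp' sq hs
  exact (h (fun _ : PUnit.{u+1} => (AlgSp.yon S).obj V) (fun _ => p) hY (fun _ => AlgSp.IsAlgSpace.yon_obj V)
    (isEtCover_single p hp hp') a hX (fun _ => Q) (fun _ => snd) (fun _ => fst) (fun _ => hQ) (fun _ => sq)).2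
    fun _ => hs

end Et

section Graph

variable {S : Scheme.{u}}

theorem repByAlgSp1_of_comp {𝒳 𝒴 𝒵 : AlgSt.Cat S}
    (h𝒳 : FibCat.IsFibGrpd 𝒳.p) (h𝒴 : FibCat.IsFibGrpd 𝒴.p) (h𝒵 : FibCat.IsFibGrpd 𝒵.p)
    (f : 𝒳 ⥤ᵇ 𝒴) (g : 𝒴 ⥤ᵇ 𝒵)
    (hgf : AlgSt.RepByAlgSp1 (BasedFunctor.comp f g))
    (hΔ : AlgSt.RepByAlgSp1 (FibCat.diag g)) : AlgSt.RepByAlgSp1 f := by
  have h1 : AlgSt.RepByAlgSp1 (FibCat.fpLift (F := BasedFunctor.comp f g) (G := g) (BasedFunctor.id 𝒳) f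
      (Iso.refl (BasedFunctor.comp f g))) := by
    rw [K735.Rep.repByAlgSp1_iff_top] at hΔ ⊢
    exact K743.DiagBC.repByAlgSpWith_graph (BasedFunctor.comp f g) g f _ hΔ
  have h2 : AlgSt.RepByAlgSp1 (FibCat.fpSnd (BasedFunctor.comp f g) g) :=
    K734.Rep.repByAlgSp1_fpSnd _ _ hgf
  have h3 : FibCat.IsFibGrpd (FibCat.fp (BasedFunctor.comp f g) g).p := K735.Fp.isFibGrpd_fp h𝒳 h𝒴 h𝒵 _ _
  exact K734.Rep.repByAlgSp1_comp h𝒳 h3 h1 h2

end Graph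

section Slice

variable {S : Scheme.{u}} {𝒳 : BasedCategory.{u, w} (Over S)} {𝒴 : BasedCategory.{v', w'} (Over S)}

theorem repByAlgSpWith_diag_iff_slice (P : MorphismProperty (AlgSp.Sp S))
    (h𝒳 : FibCat.IsFibGrpd 𝒳.p) (h𝒴 : FibCat.IsFibGrpd 𝒴.p) (f : 𝒳 ⥤ᵇ 𝒴) :
    AlgSt.RepByAlgSpWith P (FibCat.diag f) ↔
      ∀ (T : Over S) (y : FibCat.overCat T ⥤ᵇ 𝒴), AlgSt.RepByAlgSpWith P (FibCat.diag (FibCat.fpFst y f)) := by
  constructor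
  · intro h T y
    exact K739.Sect.repByAlgSpWith_diag_fpFst y f h𝒳 h𝒴 (K735.Fp.isFibGrpd_overCat T)
      (K735.Fp.isFibGrpd_fp (K735.Fp.isFibGrpd_overCat T) h𝒳 h𝒴 y f) h
  · intro h
    rw [repByAlgSpWith_diag_iff P f h𝒳 h𝒴]
    intro U x₁ x₂ φ
    have h1 := h U (BasedFunctor.comp x₁ f)
    have hfp := K735.Fp.isFibGrpd_fp (K735.Fp.isFibGrpd_overCat U) h𝒳 h𝒴 (BasedFunctor.comp x₁ f) f
    rw [repByAlgSpWith_diag_iff P _ hfp (K735.Fp.isFibGrpd_overCat U)] at h1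
    let z₁ : FibCat.overCat U ⥤ᵇ FibCat.fp (BasedFunctor.comp x₁ f) f :=
      FibCat.fpLift (BasedFunctor.id _) x₁ (Iso.refl _)
    let z₂ : FibCat.overCat U ⥤ᵇ FibCat.fp (BasedFunctor.comp x₁ f) f :=
      FibCat.fpLift (BasedFunctor.id _) x₂ φ
    let θ : BasedFunctor.comp z₁ (FibCat.fpFst (BasedFunctor.comp x₁ f) f) ≅
        BasedFunctor.comp z₂ (FibCat.fpFst (BasedFunctor.comp x₁ f) f) := Iso.refl (BasedFunctor.id _)
    have h2 := h1 U z₁ z₂ θ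
    have h3 : bcIso (BasedFunctor.comp x₁ f) f z₁ z₂ θ = φ := by
      apply K734.Fib.iso_ext₂
      intro a
      have : (bcIso (BasedFunctor.comp x₁ f) f z₁ z₂ θ).hom.toNatTrans.app a =
        𝟙 _ ≫ f.map (x₁.map (𝟙 a)) ≫ φ.hom.toNatTrans.app a := bcIso_app _ _ _ _ _ a
      rw [Category.id_comp, x₁.map_id, f.map_id, Category.id_comp] at this
      exact this
    have h4 := h2.of_iso (bcPshIso (BasedFunctor.comp x₁ f) f z₁ z₂ θ h𝒳 h𝒴 (K735.Fp.isFibGrpd_overCat U) hfp)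
      (q' := toBase f _ _ _ h𝒳 h𝒴) ?_
    · rw [h3] at h4
      exact h4
    · rw [← bcPshIso_toBase]

end Slice

section Prod

variable {S : Scheme.{u}} {𝒳 𝒳' 𝒴 𝒴' : AlgSt.Cat S} {𝒵 : AlgSt.Cat S}
  (p' : 𝒳' ⥤ᵇ 𝒵) (q' : 𝒴' ⥤ᵇ 𝒵) (f : 𝒳 ⥤ᵇ 𝒳') (g : 𝒴 ⥤ᵇ 𝒴')
  (e : BasedFunctor.comp (BasedFunctor.comp (FibCat.fpFst (BasedFunctor.comp f p') (BasedFunctor.comp g q')) f) p' ≅
      BasedFunctor.comp (BasedFunctor.comp (FibCat.fpSnd (BasedFunctor.comp f p') (BasedFunctor.comp g q')) g) q')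
  (he : ∀ x, e.hom.toNatTrans.app x = x.obj.iso.hom)

/-- The induced functor between 2-fibre products. -/
abbrev pr : FibCat.fp (BasedFunctor.comp f p') (BasedFunctor.comp g q') ⥤ᵇ FibCat.fp p' q' :=
  FibCat.fpLift (BasedFunctor.comp (FibCat.fpFst (BasedFunctor.comp f p') (BasedFunctor.comp g q')) f)
          (BasedFunctor.comp (FibCat.fpSnd (BasedFunctor.comp f p') (BasedFunctor.comp g q')) g) e

variable {U : Over S} (z₁ z₂ : FibCat.overCat U ⥤ᵇ FibCat.fp (BasedFunctor.comp f p') (BasedFunctor.comp g q'))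
  (θ : BasedFunctor.comp z₁ (pr p' q' f g e) ≅ BasedFunctor.comp z₂ (pr p' q' f g e))

abbrev xz (z : FibCat.overCat U ⥤ᵇ FibCat.fp (BasedFunctor.comp f p') (BasedFunctor.comp g q')) :
    FibCat.overCat U ⥤ᵇ 𝒳 := BasedFunctor.comp z (FibCat.fpFst (BasedFunctor.comp f p') (BasedFunctor.comp g q'))

abbrev yz (z : FibCat.overCat U ⥤ᵇ FibCat.fp (BasedFunctor.comp f p') (BasedFunctor.comp g q')) :
    FibCat.overCat U ⥤ᵇ 𝒴 := BasedFunctor.comp z (FibCat.fpSnd (BasedFunctor.comp f p') (BasedFunctor.comp g q'))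

def θ₁ : BasedFunctor.comp (xz p' q' f g z₁) f ≅ BasedFunctor.comp (xz p' q' f g z₂) f :=
  wr θ (FibCat.fpFst p' q')

def θ₂ : BasedFunctor.comp (yz p' q' f g z₁) g ≅ BasedFunctor.comp (yz p' q' f g z₂) g :=
  wr θ (FibCat.fpSnd p' q')

variable (h𝒳 : FibCat.IsFibGrpd 𝒳.p) (h𝒳' : FibCat.IsFibGrpd 𝒳'.p) (h𝒴 : FibCat.IsFibGrpd 𝒴.p)
  (h𝒴' : FibCat.IsFibGrpd 𝒴'.p)
  (h𝒱 : FibCat.IsFibGrpd (FibCat.fp (BasedFunctor.comp f p') (BasedFunctor.comp g q')).p)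
  (h𝒲 : FibCat.IsFibGrpd (FibCat.fp p' q').p)

noncomputable def mapX : psh (pr p' q' f g e) z₁ z₂ θ h𝒱 h𝒲 ⟶
    psh f (xz p' q' f g z₁) (xz p' q' f g z₂) (θ₁ p' q' f g e z₁ z₂ θ) h𝒳 h𝒳' :=
  homOf _ _ _ _ (fun T s =>
    { u := s.u
      ψ := s.ψ.hom.fst
      lift := by
        have := s.lift
        exact BasedFunctor.preserves_isHomLift
          (FibCat.fpFst (BasedFunctor.comp f p') (BasedFunctor.comp g q')) (𝟙 T) s.ψ
      comp := congrArg (fun m => m.hom.fst) s.comp }) (fun T T' t s s' h => by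
    obtain ⟨h1, h2⟩ := h
    exact ⟨h1, congrArg (fun m => m.hom.fst) h2⟩)

noncomputable def mapY : psh (pr p' q' f g e) z₁ z₂ θ h𝒱 h𝒲 ⟶
    psh g (yz p' q' f g z₁) (yz p' q' f g z₂) (θ₂ p' q' f g e z₁ z₂ θ) h𝒴 h𝒴' :=
  homOf _ _ _ _ (fun T s =>
    { u := s.u
      ψ := s.ψ.hom.snd
      lift := by
        have := s.lift
        exact BasedFunctor.preserves_isHomLift
          (FibCat.fpSnd (BasedFunctor.comp f p') (BasedFunctor.comp g q')) (𝟙 T) s.ψ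
      comp := congrArg (fun m => m.hom.snd) s.comp }) (fun T T' t s s' h => by
    obtain ⟨h1, h2⟩ := h
    exact ⟨h1, congrArg (fun m => m.hom.snd) h2⟩)

include he in
theorem isPullback_prod : IsPullback (mapX p' q' f g e z₁ z₂ θ h𝒳 h𝒳' h𝒱 h𝒲)
    (mapY p' q' f g e z₁ z₂ θ h𝒴 h𝒴' h𝒱 h𝒲)
    (toBase f _ _ _ h𝒳 h𝒳') (toBase g _ _ _ h𝒴 h𝒴') := by
  apply isPullback_psh
  · intro T s
    rfl
  · intro T s s' h1 h2
    obtain ⟨v, ψ, hl, hc⟩ := s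
    obtain ⟨v', ψ', hl', hc'⟩ := s'
    have h3 := h1
    injection h3 with h4 h5
    have h4' : v = v' := h4
    subst h4'
    have h5' : ψ.hom.fst = ψ'.hom.fst := eq_of_heq h5
    have h6 := h2
    injection h6 with h7 h8
    have h8' : ψ.hom.snd = ψ'.hom.snd := h8
    refine sec_ext ?_
    apply ObjectProperty.hom_ext
    exact CategoricalPullback.hom_ext h5' h8'
  · rintro T ⟨v, ψ, hl, hc⟩ ⟨v', ψ', hl', hc'⟩ h
    have h4 : v = v' := congrArg ULift.down h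
    subst h4
    have hw := (θ.hom.toNatTrans.app (pt v)).hom.w
    have hc1 : f.map ψ = (θ.hom.toNatTrans.app (pt v)).hom.fst := hc
    have hc2 : g.map ψ' = (θ.hom.toNatTrans.app (pt v)).hom.snd := hc'
    have he1 : ((pr p' q' f g e).obj (z₁.obj (pt v))).obj.iso.hom = (z₁.obj (pt v)).obj.iso.hom :=
      he (z₁.obj (pt v))
    have he2 : ((pr p' q' f g e).obj (z₂.obj (pt v))).obj.iso.hom = (z₂.obj (pt v)).obj.iso.hom :=
      he (z₂.obj (pt v))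
    have hw' : p'.map (f.map ψ) ≫ (z₂.obj (pt v)).obj.iso.hom =
        (z₁.obj (pt v)).obj.iso.hom ≫ q'.map (g.map ψ') := by
      rw [hc1, hc2, ← he1, ← he2]
      exact hw
    refine ⟨⟨v, ObjectProperty.homMk { fst := ψ, snd := ψ', w := hw' }, ?_, ?_⟩, rfl, rfl⟩
    · rw [← BasedFunctor.isHomLift_iff (FibCat.fpFst (BasedFunctor.comp f p') (BasedFunctor.comp g q'))]
      exact hl
    · apply ObjectProperty.hom_ext
      exact CategoricalPullback.hom_ext hc1 hc2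

theorem mapX_toBase : mapX p' q' f g e z₁ z₂ θ h𝒳 h𝒳' h𝒱 h𝒲 ≫ toBase f _ _ _ h𝒳 h𝒳' =
    toBase (pr p' q' f g e) z₁ z₂ θ h𝒱 h𝒲 := rfl

include h𝒳 h𝒳' h𝒴 h𝒴' he in
theorem repByAlgSpWith_diag_prod (h𝒵 : FibCat.IsFibGrpd 𝒵.p) {P : MorphismProperty (AlgSp.Sp S)} (hPb : BC P)
    (hPc : K739.DiagComp.Comp P)
    (hf : AlgSt.RepByAlgSpWith P (FibCat.diag f)) (hg : AlgSt.RepByAlgSpWith P (FibCat.diag g)) :
    AlgSt.RepByAlgSpWith P (FibCat.diag (pr p' q' f g e)) := by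
  have h𝒱 := K735.Fp.isFibGrpd_fp h𝒳 h𝒴 h𝒵 (BasedFunctor.comp f p') (BasedFunctor.comp g q')
  have h𝒲 := K735.Fp.isFibGrpd_fp h𝒳' h𝒴' h𝒵 p' q'
  have hP : IsoInv P := isoInv_of_baseChange P hPb
  rw [repByAlgSpWith_diag_iff P _ h𝒱 h𝒲]
  intro U z₁ z₂ θ
  obtain ⟨h1, h2, h3⟩ := (repPsh_iff hP _).1
    ((repByAlgSpWith_diag_iff P f h𝒳 h𝒳').1 hf U (xz p' q' f g z₁) (xz p' q' f g z₂) (θ₁ p' q' f g e z₁ z₂ θ))
  obtain ⟨k1, k2, k3⟩ := (repPsh_iff hP _).1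
    ((repByAlgSpWith_diag_iff P g h𝒴 h𝒴').1 hg U (yz p' q' f g z₁) (yz p' q' f g z₂) (θ₂ p' q' f g e z₁ z₂ θ))
  have sq := isPullback_prod p' q' f g e he z₁ z₂ θ h𝒳 h𝒳' h𝒴 h𝒴' h𝒱 h𝒲
  have hF : Presheaf.IsSheaf (AlgSp.J S) (psh (pr p' q' f g e) z₁ z₂ θ h𝒱 h𝒲) :=
    AlgSp.isSheaf_of_isPullback (F := ⟨_, h1⟩) (H := ⟨_, k1⟩) (G := (AlgSp.yon S).obj U) sq
  have sq' := isPullback_homMk sq hF h1 k1 ((AlgSp.yon S).obj U).property
  have hFA : AlgSp.IsAlgSpace (⟨_, hF⟩ : AlgSp.Sp S) :=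
    K606.RepBySp.isAlgSpace_of_isPullback_of_diag h2 k2 (AlgSp.IsAlgSpace.yon_obj U).diag sq'
  rw [← mapX_toBase p' q' f g e z₁ z₂ θ h𝒳 h𝒳' h𝒱 h𝒲]
  refine repPsh_of _ hF hFA ?_
  exact hPc hFA h2 (AlgSp.IsAlgSpace.yon_obj U) (ObjectProperty.homMk (mapX p' q' f g e z₁ z₂ θ h𝒳 h𝒳' h𝒱 h𝒲) :
    (⟨_, hF⟩ : AlgSp.Sp S) ⟶ ⟨_, h1⟩) (ObjectProperty.homMk (toBase f _ _ _ h𝒳 h𝒳') :
      (⟨_, h1⟩ : AlgSp.Sp S) ⟶ (AlgSp.yon S).obj U)
    (hPb k2 (AlgSp.IsAlgSpace.yon_obj U) hFA h2 _ _ _ _ sq'.flip k3) h3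

end Prod

end K161.DiagGen
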