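import Groth.Agent.AlgSt.K161.IsoSh

/-!
# Étale base change of gluing data

`GM D` : a map `h : A' ⟶ A`, étale separated `a i : M' i ⟶ M i` with `A' ×_A B i = B i ×_(M i) M' i`.
`GM.exists_glue` : the `M' i` glue to `Q'` étale and separated over `Q`, with `A' = A ×_Q Q'`.
-/

set_option autoImplicit false
set_option backward.isDefEq.respectTransparency.types false
universe u
open CategoryTheory CategoryTheory.Limits AlgebraicGeometry Opposite AlgSp

namespace K161.KM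

open K594.Elem K594.Cover

variable {S : Scheme.{u}}

theorem secEquiv_yon_map {T M : Over S} {G : Sp S} (x : T ⟶ M) (v : (yon S).obj M ⟶ G) :
    secEquiv ((yon S).map x ≫ v) = v.hom.app (op T) ⟨x⟩ := by
  rw [yonEquiv_apply]
  exact ((J S).uliftYonedaEquiv_naturality _ _).symm

/-- Maps which are étale and separated over the members of a jointly surjective family. -/
theorem repWith_of_jsurj {ι : Type u} {F G : Sp S} {f : F ⟶ G} {M M' : ι → Over S} {v : ∀ i, (yon S).obj (M i) ⟶ G}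
    {v' : ∀ i, (yon S).obj (M' i) ⟶ F} {a : ∀ i, M' i ⟶ M i} (hv : JSurj v)
    (sq : ∀ i, IsPullback (v' i) ((yon S).map (a i)) f (v i)) (ha : ∀ i, EtSep (a i).left) : RepWith EtSep f := by
  apply K594.FamRep.repWith_of_fam EtSep etSep_slqf
  intro T y
  obtain ⟨κ, V, g, hg, j, x, hx⟩ := hv y
  refine ⟨κ, V, g, hg, fun k => ?_⟩
  have hxk := hx k
  generalize x k = xk at hxk
  obtain ⟨xk⟩ := xk
  have sq1 : IsPullback (pullback.fst (a (j k)) xk) (pullback.snd (a (j k)) xk) (a (j k)) xk :=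
    IsPullback.of_hasPullback _ _
  have sq2 := (sq1.map (yon S)).paste_horiz (sq (j k))
  have h1 := isRep_of_isPullback (f := f) sq2
  rw [secEquiv_yon_map, hxk] at h1
  exact ⟨_, _, _, h1, MorphismProperty.of_isPullback (P := EtSep) (sq1.map (Over.forget S)) (ha _)⟩

/-- Replace the representing object of a universal map. -/
theorem exists_common {B : Sp S} {R R' : Over S} {ρ : B ⟶ (yon S).obj R} {ρ' : B ⟶ (yon S).obj R'} (u1 : Uni ρ)
    (u2 : Uni ρ') : ∃ i : R ≅ R', ρ ≫ (yon S).map i.hom = ρ' := by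
  obtain ⟨a, ha, -⟩ := u1 _ (IsAlgSpace.yon_obj _) ρ'
  obtain ⟨b, hb, -⟩ := u2 _ (IsAlgSpace.yon_obj _) ρ
  have hab : a ≫ b = 𝟙 _ := u1.hom_ext (IsAlgSpace.yon_obj _) (by rw [reassoc_of% ha, hb, Category.comp_id])
  have hba : b ≫ a = 𝟙 _ := u2.hom_ext (IsAlgSpace.yon_obj _) (by rw [reassoc_of% hb, ha, Category.comp_id])
  obtain ⟨a, rfl⟩ := (yon S).map_surjective a
  obtain ⟨b, rfl⟩ := (yon S).map_surjective b
  exact ⟨⟨a, b, (yon S).map_injective (by rw [Functor.map_comp, hab, CategoryTheory.Functor.map_id]),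
    (yon S).map_injective (by rw [Functor.map_comp, hba, CategoryTheory.Functor.map_id])⟩, ha⟩

theorem isPullback_of_common {B F : Sp S} {R R' N : Over S} {ρ : B ⟶ (yon S).obj R} {ρ' : B ⟶ (yon S).obj R'}
    (i : R ≅ R') (hi : ρ ≫ (yon S).map i.hom = ρ') {σ : F ⟶ (yon S).obj N} {q : R' ⟶ N} {s : B ⟶ F}
    (h : IsPullback s ρ' σ ((yon S).map q)) : IsPullback s ρ σ ((yon S).map (i.hom ≫ q)) := by
  refine IsPullback.of_iso h (Iso.refl _) (Iso.refl _) ((yon S).mapIso i).symm (Iso.refl _) ?_ ?_ ?_ ?_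
  · simp
  · change ρ' ≫ (yon S).map i.inv = 𝟙 _ ≫ ρ
    rw [← hi, Category.assoc, ← Functor.map_comp, i.hom_inv_id, CategoryTheory.Functor.map_id, Category.comp_id,
      Category.id_comp]
  · simp
  · change (yon S).map q ≫ 𝟙 _ = (yon S).map i.inv ≫ (yon S).map (i.hom ≫ q)
    rw [Category.comp_id, ← Functor.map_comp, i.inv_hom_id_assoc]

theorem exists_of_eq {X Y R : Over S} {Q : Sp S} {p : R ⟶ X} {q : R ⟶ Y} {v : (yon S).obj X ⟶ Q}
    {w : (yon S).obj Y ⟶ Q} (sq : IsPullback ((yon S).map p) ((yon S).map q) v w) {T : Over S} (x : T ⟶ X) (y : T ⟶ Y)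
    (h : v.hom.app (op T) ⟨x⟩ = w.hom.app (op T) ⟨y⟩) : ∃ r : T ⟶ R, r ≫ p = x ∧ r ≫ q = y := by
  obtain ⟨⟨r⟩, hr1, hr2⟩ := ((isPullback_iff _ _ _ _).1 sq).2.2 T ⟨x⟩ ⟨y⟩ h
  exact ⟨r, congrArg ULift.down hr1, congrArg ULift.down hr2⟩

theorem eq_of_sq {X Y R : Over S} {Q : Sp S} {p : R ⟶ X} {q : R ⟶ Y} {v : (yon S).obj X ⟶ Q}
    {w : (yon S).obj Y ⟶ Q} (sq : IsPullback ((yon S).map p) ((yon S).map q) v w) {T : Over S} (r : T ⟶ R) :
    v.hom.app (op T) ⟨r ≫ p⟩ = w.hom.app (op T) ⟨r ≫ q⟩ :=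
  congrArg (fun z => z.hom.app (op T) (⟨r⟩ : ((yon S).obj R).obj.obj (op T))) sq.w

/-- Étale base change of gluing data. -/
structure GM (D : GD S) where
  A' : Sp S
  h : A' ⟶ D.A
  B' : D.ι → Sp S
  g' : ∀ i, B' i ⟶ A'
  hB : ∀ i, B' i ⟶ D.B i
  sqA : ∀ i, IsPullback (g' i) (hB i) h (D.g i)
  M' : D.ι → Over S
  π' : ∀ i, B' i ⟶ (yon S).obj (M' i)
  a : ∀ i, M' i ⟶ D.M i
  sqM : ∀ i, IsPullback (hB i) (π' i) (D.π i) ((yon S).map (a i))
  ha : ∀ i, EtSep (a i).left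

namespace GM

variable {D : GD S} (E : GM D)

/-- The pairwise fibre products. -/
noncomputable abbrev B2 (i j : D.ι) : Sp S := pullback (E.g' i) (E.g' j)

noncomputable def hB2 (i j : D.ι) : E.B2 i j ⟶ D.B2 i j :=
  (D.sq i j).lift (pullback.fst _ _ ≫ E.hB i) (pullback.snd _ _ ≫ E.hB j) (by
    rw [Category.assoc, Category.assoc, ← (E.sqA i).w, ← (E.sqA j).w, ← Category.assoc, ← Category.assoc,
      pullback.condition])

@[reassoc]
theorem hB2_fst (i j : D.ι) : E.hB2 i j ≫ D.fst i j = pullback.fst _ _ ≫ E.hB i := IsPullback.lift_fst _ _ _ _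

@[reassoc]
theorem hB2_snd (i j : D.ι) : E.hB2 i j ≫ D.snd i j = pullback.snd _ _ ≫ E.hB j := IsPullback.lift_snd _ _ _ _

/-- `B'_ij = B'_i ×_(B_i) B_ij`. -/
theorem sq1 (i j : D.ι) : IsPullback (pullback.fst (E.g' i) (E.g' j)) (E.hB2 i j) (E.hB i) (D.fst i j) := by
  have h1 := (IsPullback.of_hasPullback (E.g' i) (E.g' j)).flip.paste_horiz (E.sqA j).flip
  rw [(E.sqA i).w, ← E.hB2_snd] at h1
  exact (IsPullback.of_right h1 (E.hB2_fst i j) (D.sq i j).flip).flip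

/-- `B'_ij = B'_j ×_(B_j) B_ij`. -/
theorem sq2 (i j : D.ι) : IsPullback (pullback.snd (E.g' i) (E.g' j)) (E.hB2 i j) (E.hB j) (D.snd i j) := by
  have h1 := (IsPullback.of_hasPullback (E.g' i) (E.g' j)).paste_horiz (E.sqA i).flip
  rw [(E.sqA j).w, ← E.hB2_fst] at h1
  exact (IsPullback.of_right h1 (E.hB2_snd i j) (D.sq i j)).flip

/-- The relation, computed on the left. -/
noncomputable abbrev R (i j : D.ι) : Over S := pullback (E.a i) (D.p i j)

/-- The relation, computed on the right. -/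
noncomputable abbrev R₂ (i j : D.ι) : Over S := pullback (E.a j) (D.q i j)

theorem isPullback_yon {X Y Z : Over S} (f : X ⟶ Z) (g : Y ⟶ Z) :
    IsPullback ((yon S).map (pullback.fst f g)) ((yon S).map (pullback.snd f g)) ((yon S).map f) ((yon S).map g) :=
  (IsPullback.of_hasPullback f g).map (yon S)

noncomputable def ρ (i j : D.ι) : E.B2 i j ⟶ (yon S).obj (E.R i j) :=
  (isPullback_yon (E.a i) (D.p i j)).lift (pullback.fst _ _ ≫ E.π' i) (E.hB2 i j ≫ D.ρ i j) (by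
    rw [Category.assoc, ← (E.sqM i).w, Category.assoc, ← (D.sqp i j).w, hB2_fst_assoc])

noncomputable def ρ₂ (i j : D.ι) : E.B2 i j ⟶ (yon S).obj (E.R₂ i j) :=
  (isPullback_yon (E.a j) (D.q i j)).lift (pullback.snd _ _ ≫ E.π' j) (E.hB2 i j ≫ D.ρ i j) (by
    rw [Category.assoc, ← (E.sqM j).w, Category.assoc, ← (D.sqq i j).w, hB2_snd_assoc])

theorem ρ_fst (i j : D.ι) : E.ρ i j ≫ (yon S).map (pullback.fst _ _) = pullback.fst _ _ ≫ E.π' i :=
  IsPullback.lift_fst _ _ _ _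

theorem ρ_snd (i j : D.ι) : E.ρ i j ≫ (yon S).map (pullback.snd _ _) = E.hB2 i j ≫ D.ρ i j :=
  IsPullback.lift_snd _ _ _ _

theorem ρ₂_fst (i j : D.ι) : E.ρ₂ i j ≫ (yon S).map (pullback.fst _ _) = pullback.snd _ _ ≫ E.π' j :=
  IsPullback.lift_fst _ _ _ _

theorem ρ₂_snd (i j : D.ι) : E.ρ₂ i j ≫ (yon S).map (pullback.snd _ _) = E.hB2 i j ≫ D.ρ i j :=
  IsPullback.lift_snd _ _ _ _

theorem sqp' (i j : D.ι) : IsPullback (pullback.fst (E.g' i) (E.g' j)) (E.ρ i j) (E.π' i)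
    ((yon S).map (pullback.fst (E.a i) (D.p i j))) := by
  -- outer : `B'_ij ⟶ R_ij` over `B'_i ⟶ M_i`
  have h1 := (E.sq1 i j).flip.paste_horiz (D.sqp i j).flip
  rw [(E.sqM i).w, ← E.ρ_snd] at h1
  exact (IsPullback.of_right h1 (E.ρ_fst i j) (isPullback_yon (E.a i) (D.p i j)).flip).flip

theorem sqq₂ (i j : D.ι) : IsPullback (pullback.snd (E.g' i) (E.g' j)) (E.ρ₂ i j) (E.π' j)
    ((yon S).map (pullback.fst (E.a j) (D.q i j))) := by
  have h1 := (E.sq2 i j).flip.paste_horiz (D.sqq i j).flip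
  rw [(E.sqM j).w, ← E.ρ₂_snd] at h1
  exact (IsPullback.of_right h1 (E.ρ₂_fst i j) (isPullback_yon (E.a j) (D.q i j)).flip).flip

theorem funi' (i : D.ι) : FUni (E.π' i) :=
  (D.funi i).bc (IsAlgSpace.yon_obj _) (IsAlgSpace.yon_obj _) (E.sqM i) (GD.locP_flat_of_etale _ (E.ha i).1)

theorem etSep_fst (i j : D.ι) : EtSep (pullback.fst (E.a i) (D.p i j)).left :=
  MorphismProperty.of_isPullback (P := EtSep) ((IsPullback.of_hasPullback (E.a i) (D.p i j)).flip.map (Over.forget S))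
    ⟨D.etp i j, D.sep i j⟩

theorem etSep_fst₂ (i j : D.ι) : EtSep (pullback.fst (E.a j) (D.q i j)).left :=
  MorphismProperty.of_isPullback (P := EtSep) ((IsPullback.of_hasPullback (E.a j) (D.q i j)).flip.map (Over.forget S))
    ⟨D.etq i j, D.seq i j⟩

theorem uni_ρ' (i j : D.ι) : Uni (E.ρ i j) :=
  ((E.funi' i).bc (IsAlgSpace.yon_obj _) (IsAlgSpace.yon_obj _) (E.sqp' i j)
    (GD.locP_flat_of_etale _ (E.etSep_fst i j).1)).uni (IsAlgSpace.yon_obj _)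

theorem uni_ρ₂ (i j : D.ι) : Uni (E.ρ₂ i j) :=
  ((E.funi' j).bc (IsAlgSpace.yon_obj _) (IsAlgSpace.yon_obj _) (E.sqq₂ i j)
    (GD.locP_flat_of_etale _ (E.etSep_fst₂ i j).1)).uni (IsAlgSpace.yon_obj _)

theorem exists_iso (i j : D.ι) : ∃ k : E.R i j ≅ E.R₂ i j, E.ρ i j ≫ (yon S).map k.hom = E.ρ₂ i j :=
  exists_common (E.uni_ρ' i j) (E.uni_ρ₂ i j)

noncomputable def iso (i j : D.ι) : E.R i j ≅ E.R₂ i j := (E.exists_iso i j).choose

theorem ρ_iso (i j : D.ι) : E.ρ i j ≫ (yon S).map (E.iso i j).hom = E.ρ₂ i j := (E.exists_iso i j).choose_spec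

noncomputable def q' (i j : D.ι) : E.R i j ⟶ E.M' j := (E.iso i j).hom ≫ pullback.fst (E.a j) (D.q i j)

theorem q'_a (i j : D.ι) : E.q' i j ≫ E.a j = pullback.snd (E.a i) (D.p i j) ≫ D.q i j := by
  apply (yon S).map_injective
  apply (E.uni_ρ' i j).hom_ext (IsAlgSpace.yon_obj _)
  rw [Functor.map_comp, Functor.map_comp, q', Functor.map_comp, Category.assoc, reassoc_of% (E.ρ_iso i j),
    ← Functor.map_comp, pullback.condition, Functor.map_comp, ← Category.assoc, ← Category.assoc, E.ρ₂_snd, E.ρ_snd]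

theorem etSep_q' (i j : D.ι) : EtSep (E.q' i j).left := by
  obtain ⟨h5, h6⟩ := E.etSep_fst₂ i j
  have h5' : Etale (pullback.fst (E.a j) (D.q i j)).left := h5
  have h6' : IsSeparated (pullback.fst (E.a j) (D.q i j)).left := h6
  have hi : IsIso (E.iso i j).hom := inferInstance
  have hi' : IsIso (E.iso i j).hom.left := inferInstance
  rw [q', Over.comp_left]
  exact ⟨(inferInstance : Etale ((E.iso i j).hom.left ≫ (pullback.fst (E.a j) (D.q i j)).left)),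
    (inferInstance : IsSeparated ((E.iso i j).hom.left ≫ (pullback.fst (E.a j) (D.q i j)).left))⟩

/-- The gluing datum for `A'`. -/
noncomputable def gd' : GD S where
  ι := D.ι
  A := E.A'
  B := E.B'
  M := E.M'
  g := E.g'
  π := E.π'
  B2 := E.B2
  fst i j := pullback.fst _ _
  snd i j := pullback.snd _ _
  sq i j := IsPullback.of_hasPullback _ _
  R := E.R
  ρ := E.ρ
  p i j := pullback.fst _ _
  q := E.q'
  sqp := E.sqp'
  sqq i j := isPullback_of_common (E.iso i j) (E.ρ_iso i j) (E.sqq₂ i j)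
  etp i j := (E.etSep_fst i j).1
  sep i j := (E.etSep_fst i j).2
  etq i j := (E.etSep_q' i j).1
  seq i j := (E.etSep_q' i j).2
  jsurj := JSurj.bc' D.jsurj E.h E.sqA
  funi := E.funi'
  geo i := (D.geo i).bc (E.sqM i)

theorem exists_refl' (i : D.ι) : ∃ δ : E.M' i ⟶ E.R i i, δ ≫ pullback.fst (E.a i) (D.p i i) = 𝟙 _ ∧
    δ ≫ E.q' i i = 𝟙 _ := by
  obtain ⟨δ, h1, h2, -⟩ := E.gd'.exists_refl i
  exact ⟨δ, h1, h2⟩

theorem eq_of_rel {i : D.ι} {T : Over S} (r : T ⟶ E.R i i)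
    (h : (r ≫ pullback.fst (E.a i) (D.p i i)) ≫ E.a i = (r ≫ E.q' i i) ≫ E.a i) :
    r ≫ pullback.fst (E.a i) (D.p i i) = r ≫ E.q' i i := by
  obtain ⟨δ, hδ1, hδ2⟩ := E.exists_refl' i
  have e1 : r = (r ≫ pullback.fst (E.a i) (D.p i i)) ≫ δ := by
    apply pullback.hom_ext
    · rw [Category.assoc, hδ1, Category.comp_id]
    · apply D.ext_R
      · simp only [Category.assoc]
        rw [← pullback.condition, reassoc_of% hδ1]
      · simp only [Category.assoc]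
        rw [← E.q'_a, reassoc_of% hδ2]
        simpa only [Category.assoc] using h.symm
  have e2 := congrArg (fun z => z ≫ E.q' i i) e1
  simp only [Category.assoc, hδ2, Category.comp_id] at e2
  exact e2.symm

section Glue

variable {Q : Sp S} {v : ∀ i, (yon S).obj (D.M i) ⟶ Q} {π : D.A ⟶ Q}
  {Q' : Sp S} {v' : ∀ i, (yon S).obj (E.M' i) ⟶ Q'} {g : Q' ⟶ Q}

theorem hw {i : D.ι} (hvg : v' i ≫ g = (yon S).map (E.a i) ≫ v i) {T : Over S} (x : T ⟶ E.M' i) :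
    g.hom.app (op T) ((v' i).hom.app (op T) ⟨x⟩) = (v i).hom.app (op T) ⟨x ≫ E.a i⟩ :=
  congrArg (fun z => z.hom.app (op T) (⟨x⟩ : ((yon S).obj (E.M' i)).obj.obj (op T))) hvg

/-- `M'_i = Q' ×_Q M_i`. -/
theorem sqV (hvg : ∀ i, v' i ≫ g = (yon S).map (E.a i) ≫ v i)
    (hR : ∀ i j, IsPullback ((yon S).map (D.p i j)) ((yon S).map (D.q i j)) (v i) (v j)) (hv' : JSurj v')
    (hR' : ∀ i j, IsPullback ((yon S).map (pullback.fst (E.a i) (D.p i j))) ((yon S).map (E.q' i j)) (v' i) (v' j))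
    (i : D.ι) : IsPullback (v' i) ((yon S).map (E.a i)) g (v i) := by
  refine isPullback_of_local (hvg i) ?_ ?_
  · rintro T ⟨m₁⟩ ⟨m₂⟩ h1 h2
    have h2 : m₁ ≫ E.a i = m₂ ≫ E.a i := congrArg ULift.down h2
    obtain ⟨r, hr1, hr2⟩ := exists_of_eq (hR' i i) m₁ m₂ h1
    apply congrArg ULift.up
    rw [← hr1, ← hr2]
    apply E.eq_of_rel
    rw [hr1, hr2]
    exact h2
  · rintro T y ⟨m⟩ hym
    obtain ⟨κ, V, w, hfam, j, x, hx⟩ := hv' y
    refine ⟨_, hfam.mem, ?_⟩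
    rintro T' _ ⟨_, t, _, ⟨k⟩, rfl⟩
    have hxk := hx k
    generalize x k = xk at hxk
    obtain ⟨xk⟩ := xk
    have e1 : (v (j k)).hom.app (op (V k)) ⟨xk ≫ E.a (j k)⟩ = (v i).hom.app (op (V k)) ⟨w k ≫ m⟩ := by
      rw [← E.hw (hvg (j k)) xk, hxk, app_map, hym, ← app_map]
      rfl
    obtain ⟨r, hr1, hr2⟩ := exists_of_eq (hR (j k) i) (xk ≫ E.a (j k)) (w k ≫ m) e1
    let r' : V k ⟶ E.R (j k) i := pullback.lift xk r hr1.symm
    have e4 : r' ≫ pullback.fst (E.a (j k)) (D.p (j k) i) = xk := pullback.lift_fst _ _ _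
    have e5 : r' ≫ pullback.snd (E.a (j k)) (D.p (j k) i) = r := pullback.lift_snd _ _ _
    have e2 := eq_of_sq (hR' (j k) i) r'
    rw [e4] at e2
    refine ⟨⟨t ≫ r' ≫ E.q' (j k) i⟩, ?_, ?_⟩
    · have e3 : (⟨t ≫ r' ≫ E.q' (j k) i⟩ : ((yon S).obj (E.M' i)).obj.obj (op T')) =
          ((yon S).obj (E.M' i)).obj.map t.op ⟨r' ≫ E.q' (j k) i⟩ := rfl
      rw [e3, app_map, ← e2, hxk, ← map_comp_apply]
    · apply congrArg ULift.up
      change (t ≫ r' ≫ E.q' (j k) i) ≫ E.a i = (t ≫ w k) ≫ m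
      rw [Category.assoc, Category.assoc, E.q'_a, ← Category.assoc r', e5, hr2, Category.assoc]

section Sq

variable {π' : E.A' ⟶ Q'} (sq : ∀ i, IsPullback (D.g i) (D.π i) π (v i))
  (sq' : ∀ i, IsPullback (E.g' i) (E.π' i) π' (v' i))
  (sqV : ∀ i, IsPullback (v' i) ((yon S).map (E.a i)) g (v i))

include sq sq' sqV

theorem inj_aux {i : D.ι} {T : Over S} {x y : E.A'.obj.obj (op T)} (m : ((yon S).obj (D.M i)).obj.obj (op T))
    (h1 : E.h.hom.app _ x = E.h.hom.app _ y) (h2 : π'.hom.app _ x = π'.hom.app _ y)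
    (hm : (v i).hom.app _ m = π.hom.app _ (E.h.hom.app _ x)) : x = y := by
  obtain ⟨b, hb1, hb2⟩ := ((isPullback_iff _ _ _ _).1 (sq i)).2.2 T (E.h.hom.app _ x) m hm.symm
  obtain ⟨c, hc1, hc2⟩ := ((isPullback_iff _ _ _ _).1 (E.sqA i)).2.2 T x b hb1.symm
  obtain ⟨d, hd1, hd2⟩ := ((isPullback_iff _ _ _ _).1 (E.sqA i)).2.2 T y b (h1.symm.trans hb1.symm)
  have e1 : (E.π' i).hom.app _ c = (E.π' i).hom.app _ d := by
    refine ((isPullback_iff _ _ _ _).1 (sqV i)).2.1 T _ _ ?_ ?_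
    · rw [← comp_app, ← comp_app, ← (sq' i).w, comp_app, comp_app, hc1, hd1, h2]
    · rw [← comp_app, ← comp_app, ← (E.sqM i).w, comp_app, comp_app, hc2, hd2]
  have e2 : c = d := ((isPullback_iff _ _ _ _).1 (E.sqM i)).2.1 T _ _ (hc2.trans hd2.symm) e1
  rw [← hc1, ← hd1, e2]

theorem ex_aux {i : D.ι} {T : Over S} {x : D.A.obj.obj (op T)} {y : Q'.obj.obj (op T)}
    (m : ((yon S).obj (D.M i)).obj.obj (op T)) (hxy : π.hom.app _ x = g.hom.app _ y)
    (hm : (v i).hom.app _ m = π.hom.app _ x) :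
    ∃ z : E.A'.obj.obj (op T), E.h.hom.app _ z = x ∧ π'.hom.app _ z = y := by
  obtain ⟨b, hb1, hb2⟩ := ((isPullback_iff _ _ _ _).1 (sq i)).2.2 T x m hm.symm
  obtain ⟨m', hm1, hm2⟩ := ((isPullback_iff _ _ _ _).1 (sqV i)).2.2 T y m (hxy.symm.trans hm.symm)
  obtain ⟨c, hc1, hc2⟩ := ((isPullback_iff _ _ _ _).1 (E.sqM i)).2.2 T b m' (hb2.trans hm2.symm)
  refine ⟨(E.g' i).hom.app _ c, ?_, ?_⟩
  · rw [← comp_app, (E.sqA i).w, comp_app, hc1, hb1]
  · rw [← comp_app, (sq' i).w, comp_app, hc2, hm1]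

/-- `A' = A ×_Q Q'`. -/
theorem sqQ (hg : E.h ≫ π = π' ≫ g) (hv : JSurj v) : IsPullback E.h π' π g := by
  refine isPullback_of_local hg ?_ ?_
  · intro T x y h1 h2
    obtain ⟨κ, V, w, hfam, i, m, hm⟩ := hv (π.hom.app _ (E.h.hom.app _ x))
    apply hfam.ext
    intro k
    refine E.inj_aux sq sq' sqV (m k) ?_ ?_ ?_
    · rw [app_map, app_map, h1]
    · rw [app_map, app_map, h2]
    · rw [app_map, app_map]
      exact hm k
  · intro T x y hxy
    obtain ⟨κ, V, w, hfam, i, m, hm⟩ := hv (π.hom.app _ x)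
    refine ⟨_, hfam.mem, ?_⟩
    rintro T' _ ⟨_, t, _, ⟨k⟩, rfl⟩
    refine E.ex_aux sq sq' sqV (((yon S).obj (D.M (i k))).obj.map t.op (m k)) ?_ ?_
    · rw [app_map, app_map, hxy]
    · rw [app_map, app_map]
      refine (congrArg _ (hm k)).trans ?_
      rw [← map_comp_apply]

end Sq

end Glue

theorem exists_glue' : ∃ (Q' : Sp S) (v' : ∀ i, (yon S).obj (E.M' i) ⟶ Q') (π' : E.A' ⟶ Q'), IsAlgSpace Q' ∧
    JSurj v' ∧ (∀ i, IsPullback (E.g' i) (E.π' i) π' (v' i)) ∧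
    (∀ i j, IsPullback ((yon S).map (pullback.fst (E.a i) (D.p i j))) ((yon S).map (E.q' i j)) (v' i) (v' j)) ∧
    FUni π' ∧ GeoBij π' := by
  obtain ⟨Q', v', π', h1, h2, h3, h4, h5, h6, h7⟩ := E.gd'.exists_glue
  exact ⟨Q', v', π', h1, h2, h4, h5, h6, h7⟩

/-- The `M'_i` glue to `Q'`, étale and separated over `Q`, with `A' = A ×_Q Q'`. -/
theorem exists_glue {Q : Sp S} {v : ∀ i, (yon S).obj (D.M i) ⟶ Q} {π : D.A ⟶ Q} (hQ : IsAlgSpace Q) (hv : JSurj v)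
    (sq : ∀ i, IsPullback (D.g i) (D.π i) π (v i))
    (hR : ∀ i j, IsPullback ((yon S).map (D.p i j)) ((yon S).map (D.q i j)) (v i) (v j)) :
    ∃ (Q' : Sp S) (π' : E.A' ⟶ Q') (g : Q' ⟶ Q), IsAlgSpace Q' ∧ FUni π' ∧ GeoBij π' ∧ RepWith EtSep g ∧
      IsPullback E.h π' π g := by
  obtain ⟨Q', v', π', h1, h2, h4, h5, h6, h7⟩ := E.exists_glue'
  obtain ⟨g, hg, -⟩ := h6.uni h1 Q hQ (E.h ≫ π)
  have hvg : ∀ i, v' i ≫ g = (yon S).map (E.a i) ≫ v i := by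
    intro i
    apply ((E.funi' i).uni (IsAlgSpace.yon_obj _)).hom_ext hQ
    rw [← Category.assoc, ← (h4 i).w, Category.assoc, hg, ← Category.assoc, (E.sqA i).w, Category.assoc, (sq i).w,
      ← Category.assoc, (E.sqM i).w, Category.assoc]
  have hV := E.sqV hvg hR h2 h5
  exact ⟨Q', π', g, h1, h6, h7, repWith_of_jsurj hv hV E.ha, E.sqQ sq h4 hV hg.symm hv⟩

end GM

end K161.KM
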