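import Groth.Agent.AlgSt.K161.KM
import Groth.Agent.AlgSt.K161.EtBase

/-!
# Étale morphisms and moduli spaces

* `main16696` : an étale separated morphism bijective on automorphism groups induces an étale separated morphism of
  moduli spaces, with a 2-cartesian square.
-/

set_option autoImplicit false
set_option backward.isDefEq.respectTransparency false
set_option backward.isDefEq.respectTransparency.types false
universe u
open CategoryTheory CategoryTheory.Limits AlgebraicGeometry Opposite AlgSp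

namespace K161.KM

open K594.Elem K594.Cover K734.Fib

variable {S : Scheme.{u}}

theorem Uni.exists_iso {A M N : Sp S} {p : A ⟶ M} {q : A ⟶ N} (hp : Uni p) (hq : Uni q) (hM : IsAlgSpace M)
    (hN : IsAlgSpace N) : ∃ i : M ≅ N, p ≫ i.hom = q := by
  obtain ⟨a, ha, -⟩ := hp N hN q
  obtain ⟨b, hb, -⟩ := hq M hM p
  exact ⟨⟨a, b, hp.hom_ext hM (by rw [reassoc_of% ha, hb, Category.comp_id]),
    hq.hom_ext hN (by rw [reassoc_of% hb, ha, Category.comp_id])⟩, ha⟩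

theorem FUni.comp_iso {A M N : Sp S} {p : A ⟶ M} (hp : FUni p) (i : M ≅ N) : FUni (p ≫ i.hom) := by
  intro M' A' g g' p' hM' hg sq
  have := K735.Top.locP_respectsIso (S := S) @Flat
  refine hp (g ≫ i.inv) g' p' hM' ((MorphismProperty.cancel_right_of_respectsIso (LocP @Flat) g i.inv).2 hg) ?_
  refine IsPullback.of_iso sq (Iso.refl _) (Iso.refl _) (Iso.refl _) i.symm ?_ ?_ ?_ ?_ <;> simp

theorem isEtaleMor_of_etSep {F G : Sp S} {f : F ⟶ G} (h : RepWith EtSep f) : IsEtaleMor f := by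
  have h1 : RepWith @Etale f := K597.repWith_mono (fun _ _ _ h => h.1) h
  exact fun U φ hφ => (RepWith @Etale).comp_mem _ _ hφ h1

theorem isSeparatedMor_of_etSep {F G : Sp S} {f : F ⟶ G} (h : RepWith EtSep f) : IsSeparatedMor f :=
  (K595.DiagBasic.isSeparatedMor_iff_repWith h.1).2 (K597.repWith_mono (fun _ _ _ h => h.2) h)

section

variable {𝒳 𝒳' : AlgSt.Cat S} (h𝒳 : AlgSt.IsAlgStack Scheme.fppfPrecoverage 𝒳)
  (h𝒳' : AlgSt.IsAlgStack Scheme.fppfPrecoverage 𝒳') {C : Cov 𝒳} (m : CovMod C) (h : 𝒳' ⥤ᵇ 𝒳)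
  (het : AlgSt.RepByAlgSpWith AlgSp.IsEtaleMor h) (hsep : AlgSt.IsSeparatedMor h) (haut : AutBij h)

include h𝒳 h𝒳' m het hsep haut

/-- The moduli spaces of `𝒳` and `𝒳'`. -/
theorem exists_etale_glue : ∃ (Q Q' : Sp S) (π : Sh h𝒳.isStack.1 ⟶ Q) (π' : Sh h𝒳'.isStack.1 ⟶ Q') (g : Q' ⟶ Q),
    IsAlgSpace Q ∧ IsAlgSpace Q' ∧ FUni π ∧ FUni π' ∧ RepWith EtSep g ∧
      IsPullback (shMap h𝒳'.isStack.1 h𝒳.isStack.1 h) π' π g := by
  have key : ∀ i : C.ι, ∃ (R : Over S) (ρ : Sh (alg_fp h𝒳 h𝒳' (C.alg i) h (C.g i)).isStack.1 ⟶ (yon S).obj R)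
      (p : R ⟶ m.V i), IsPullback (shMap _ (C.alg i).isStack.1 (FibCat.fpSnd h (C.g i))) ρ
        (shDesc (C.alg i).isStack.1 (m.π i)) ((yon S).map p) ∧ EtSep p.left := by
    intro i
    have s2 : AlgSt.IsSeparatedMor (FibCat.fpSnd h (C.g i)) :=
      isSeparatedMor_fpSnd h𝒳'.isStack.1 (C.alg i).isStack.1 h𝒳.isStack.1 h (C.g i)
        (Groth.Agent.S12952.result S 𝒳' 𝒳 (C.X i) h𝒳' h𝒳 (C.alg i) h (C.g i) hsep)
    exact exists_chart_of_etale (C.alg i) (alg_fp h𝒳 h𝒳' (C.alg i) h (C.g i)) (C.wna i) (FibCat.fpSnd h (C.g i))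
      (K734.Rep.repByAlgSpWith_fpSnd _ h (C.g i) het) s2 (AutBij.fpSnd (C.g i) haut) (m.π i) (m.unif i).1
  choose M' π' a sqM ha using key
  let E : GM (gd h𝒳 m) :=
    { A' := Sh h𝒳'.isStack.1
      h := shMap _ _ h
      B' := fun i => Sh (alg_fp h𝒳 h𝒳' (C.alg i) h (C.g i)).isStack.1
      g' := fun i => shMap _ _ (FibCat.fpFst h (C.g i))
      hB := fun i => shMap _ _ (FibCat.fpSnd h (C.g i))
      sqA := fun i => isPullback_shMap _ _ _ h (C.g i) haut.surj _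
      M' := M'
      π' := π'
      a := a
      sqM := sqM
      ha := ha }
  obtain ⟨Q, v, π, h1, h2, h3, h4, h5, h6, h7⟩ := (gd h𝒳 m).exists_glue
  obtain ⟨Q', π', g, g1, g2, g3, g4, g5⟩ := E.exists_glue h1 h2 h4 h5
  exact ⟨Q, Q', π, π', g, h1, g1, h6, g2, g4, g5⟩

/-- Étale morphisms and moduli spaces. -/
theorem exists_etale_moduli {M : AlgSp.Sp S} (π : 𝒳 ⥤ᵇ AlgSt.ofSp M) (hπ : AlgSt.IsCatModuli π)
    {M' : AlgSp.Sp S} (π' : 𝒳' ⥤ᵇ AlgSt.ofSp M') (hπ' : AlgSt.IsCatModuli π') :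
    ∃ (g : M' ⟶ M) (e : BasedFunctor.comp h π ≅ BasedFunctor.comp π' (AlgSt.ofSpMap g)),
      RepWith EtSep g ∧ FibCat.IsTwoCartOver h π' e ∧ AlgSt.IsUnifCatModuli π' := by
  obtain ⟨Q, Q', σ, σ', g, h1, h2, h3, h4, h5, h6⟩ := exists_etale_glue h𝒳 h𝒳' m h het hsep haut
  obtain ⟨hM, u1⟩ := (isCatModuli_iff h𝒳.isStack.1 π).1 hπ
  obtain ⟨hM', u2⟩ := (isCatModuli_iff h𝒳'.isStack.1 π').1 hπ'
  obtain ⟨α, hα⟩ := (h3.uni h1).exists_iso u1 h1 hM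
  obtain ⟨β, hβ⟩ := (h4.uni h2).exists_iso u2 h2 hM'
  have sq : IsPullback (shMap h𝒳'.isStack.1 h𝒳.isStack.1 h) (shDesc h𝒳'.isStack.1 π') (shDesc h𝒳.isStack.1 π)
      (β.inv ≫ g ≫ α.hom) := by
    refine IsPullback.of_iso h6 (Iso.refl _) (Iso.refl _) β α ?_ ?_ ?_ ?_
    · simp
    · simpa using hβ
    · simpa using hα
    · simp
  obtain ⟨e⟩ : Nonempty (BasedFunctor.comp h π ≅ BasedFunctor.comp π' (AlgSt.ofSpMap (β.inv ≫ g ≫ α.hom))) := by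
    refine K746.nonempty_iso_ofPsh_iff.2 ((shDesc_eq_iff h𝒳'.isStack.1).1 ?_)
    rw [← shMap_shDesc _ h𝒳.isStack.1, shDesc_comp]
    exact sq.w
  refine ⟨β.inv ≫ g ≫ α.hom, e, ?_, ?_, ?_⟩
  · have sq' : IsPullback β.inv (β.inv ≫ g ≫ α.hom) g α.inv := IsPullback.of_horiz_isIso ⟨by simp⟩
    exact MorphismProperty.of_isPullback (P := RepWith EtSep) sq' h5
  · exact isTwoCartOver_of_isPullback h𝒳'.isStack h𝒳.isStack e haut sq (K734.Rep.isPrestack_of_isStack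
      (alg_fp (K740.SpDM.isAlgStack_ofSp hM) h𝒳 (K740.SpDM.isAlgStack_ofSp hM') π _).isStack)
  · rw [isUnifCatModuli_iff h𝒳'.isStack.1, ← hβ]
    exact ⟨hM', h4.comp_iso β⟩

end

/-- S16696. -/
theorem main16696 (i : I16703 S) (𝒳 𝒳' : AlgSt.Cat S)
    (h𝒳 : AlgSt.IsAlgStack Scheme.fppfPrecoverage 𝒳)
    (hI : AlgSt.RepByAlgSpWith AlgSp.IsFiniteMor (FibCat.inertiaToBase (FibCat.toSelf 𝒳)))
    (h𝒳' : AlgSt.IsAlgStack Scheme.fppfPrecoverage 𝒳') (h : 𝒳' ⥤ᵇ 𝒳)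
    (het : AlgSt.RepByAlgSpWith AlgSp.IsEtaleMor h) (hsep : AlgSt.IsSeparatedMor h)
    (haut : ∀ x' : 𝒳'.obj, Function.Bijective (Gerb.autMap h x'))
    (M : AlgSp.Sp S) (π : 𝒳 ⥤ᵇ AlgSt.ofSp M) (hπ : AlgSt.IsCatModuli π)
    (M' : AlgSp.Sp S) (π' : 𝒳' ⥤ᵇ AlgSt.ofSp M') (hπ' : AlgSt.IsCatModuli π') :
    ∃ (g : M' ⟶ M) (e : BasedFunctor.comp h π ≅ BasedFunctor.comp π' (AlgSt.ofSpMap g)),
      AlgSp.IsEtaleMor g ∧ AlgSp.IsSeparatedMor g ∧ FibCat.IsTwoCartOver h π' e := by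
  obtain ⟨C⟩ := exists_cov h𝒳 (i 𝒳 h𝒳 hI)
  obtain ⟨m⟩ := exists_covMod C
  obtain ⟨g, e, h1, h2, -⟩ := exists_etale_moduli h𝒳 h𝒳' m h het hsep
    ((autBij_iff h𝒳'.isStack.1 h𝒳.isStack.1 h).2 haut) π hπ π' hπ'
  exact ⟨g, e, isEtaleMor_of_etSep h1, isSeparatedMor_of_etSep h1, h2⟩

end K161.KM
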