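import Groth.Agent.AlgSp.K594.Atlas
import Groth.Agent.AlgSp.K597.LocP
import Groth.Agent.AlgSp.K630.Kit
import Groth.Agent.AlgSt.K746.AlgPt
import Groth.Agent.AlgSt.K746.GeomIso

/-!
# Gluing of universal maps to algebraic spaces (sheaf part of the Keel–Mori construction)

* `JSurj f` : the family `f i : F i ⟶ G` of maps of sheaves is jointly locally surjective; `JSurj.hom_ext`,
  `JSurj.exists_desc`, `JSurj.bc`.
* `exists_sheaf_quot` : the quotient sheaf of a coproduct by a local equivalence relation.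
* `Uni p` : `p : A ⟶ M` is universal among maps to algebraic spaces, `FUni p` : so are its flat base changes.
-/

set_option autoImplicit false
set_option backward.isDefEq.respectTransparency.types false
universe u
open CategoryTheory CategoryTheory.Limits AlgebraicGeometry Opposite AlgSp

namespace K161.KM

open K594.Elem K594.Cover

variable {S : Scheme.{u}}

/-- Jointly locally surjective families of maps of sheaves. -/
def JSurj {ι : Type u} {F : ι → Sp S} {G : Sp S} (f : ∀ i, F i ⟶ G) : Prop :=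
  ∀ {T : Over S} (y : G.obj.obj (op T)), ∃ (κ' : Type u) (V : κ' → Over S)
    (g : ∀ k, V k ⟶ T) (_ : Fam g) (i : κ' → ι) (x : ∀ k, (F (i k)).obj.obj (op (V k))),
    ∀ k, (f (i k)).hom.app (op (V k)) (x k) = G.obj.map (g k).op y

section JS

variable {ι : Type u} {F : ι → Sp S} {G : Sp S} {f : ∀ i, F i ⟶ G}

theorem JSurj.hom_ext (h : JSurj f) {N : Sp S} {a b : G ⟶ N} (e : ∀ i, f i ≫ a = f i ≫ b) : a = b := by
  apply K594.Elem.hom_ext
  intro T y
  obtain ⟨κ, V, g, hg, i, x, hx⟩ := h y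
  apply hg.ext
  intro k
  rw [← app_map, ← app_map, ← hx, ← comp_app, ← comp_app, e]

/-- Compatible maps on the members of a jointly surjective family glue. -/
theorem JSurj.exists_desc (h : JSurj f) {N : Sp S} (φ : ∀ i, F i ⟶ N)
    (hφ : ∀ (i j : ι) {T : Over S} (x : (F i).obj.obj (op T)) (y : (F j).obj.obj (op T)),
      (f i).hom.app (op T) x = (f j).hom.app (op T) y → (φ i).hom.app (op T) x = (φ j).hom.app (op T) y) :
    ∃ ψ : G ⟶ N, ∀ i, f i ≫ ψ = φ i := by
  have ex : ∀ {T : Over S} (y : G.obj.obj (op T)), ∃! s : N.obj.obj (op T),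
      ∀ (T' : Over S) (t : T' ⟶ T) (i : ι) (x : (F i).obj.obj (op T')),
        (f i).hom.app (op T') x = G.obj.map t.op y → N.obj.map t.op s = (φ i).hom.app (op T') x := by
    intro T y
    obtain ⟨κ, V, g, hg, i, x, hx⟩ := h y
    obtain ⟨s, hs, -⟩ := hg.glue N (fun k => (φ (i k)).hom.app _ (x k)) (by
      intro k l Z a b hab
      rw [← app_map, ← app_map]
      apply hφ
      rw [app_map, app_map, hx, hx, ← map_comp_apply, ← map_comp_apply, hab])
    refine ⟨s, ?_, ?_⟩
    · intro T' t j z hz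
      obtain ⟨V', g', t', sq, hg'⟩ := K594.FamRep.Fam.exists_baseChange hg t
      apply hg'.ext
      intro k
      rw [← map_comp_apply, ← (sq k).w, map_comp_apply, hs, ← app_map, ← app_map]
      apply hφ
      rw [app_map, app_map, hx, hz, ← map_comp_apply, ← map_comp_apply, (sq k).w]
    · intro s' hs'
      apply hg.ext
      intro k
      rw [hs, hs' _ (g k) (i k) (x k) (hx k)]
  choose s hs hsu using @ex
  refine ⟨⟨{ app := fun T => ↾(fun y => s y), naturality := ?_ }⟩, ?_⟩
  · rintro ⟨T⟩ ⟨T'⟩ ⟨t⟩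
    ext y
    change s (G.obj.map t.op y) = N.obj.map t.op (s y)
    symm
    apply hsu
    intro T'' t' i x hx
    rw [← map_comp_apply] at hx ⊢
    exact hs y _ _ i x hx
  · intro i
    apply K594.Elem.hom_ext
    intro T x
    change s ((f i).hom.app (op T) x) = (φ i).hom.app (op T) x
    have := hs ((f i).hom.app (op T) x) T (𝟙 T) i x (by rw [map_id_apply])
    rwa [map_id_apply] at this

/-- Base change of jointly surjective families. -/
theorem JSurj.bc (h : JSurj f) {G' : Sp S} (g : G' ⟶ G) {F' : ι → Sp S} {a : ∀ i, F' i ⟶ F i}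
    {f' : ∀ i, F' i ⟶ G'} (sq : ∀ i, IsPullback (a i) (f' i) (f i) g) : JSurj f' := by
  intro T y
  obtain ⟨κ, V, v, hv, i, x, hx⟩ := h (g.hom.app _ y)
  have key : ∀ k, ∃ x' : (F' (i k)).obj.obj (op (V k)), (f' (i k)).hom.app _ x' = G'.obj.map (v k).op y := by
    intro k
    obtain ⟨-, -, hl⟩ := (isPullback_iff _ _ _ _).1 (sq (i k))
    obtain ⟨z, -, hz⟩ := hl _ (x k) (G'.obj.map (v k).op y) (by rw [hx, app_map])
    exact ⟨z, hz⟩
  choose x' hx' using key
  exact ⟨κ, V, v, hv, i, x', hx'⟩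

/-- Base change of jointly surjective families (other orientation). -/
theorem JSurj.bc' (h : JSurj f) {G' : Sp S} (g : G' ⟶ G) {F' : ι → Sp S} {a : ∀ i, F' i ⟶ F i}
    {f' : ∀ i, F' i ⟶ G'} (sq : ∀ i, IsPullback (f' i) (a i) g (f i)) : JSurj f' :=
  h.bc g fun i => (sq i).flip

end JS

section Quot

variable {ι : Type u} (F : ι → Sp S)

open K594.Coprod (pre preι)

/-- The quotient sheaf of a coproduct by a local equivalence relation. -/
theorem exists_sheaf_quot (r : ∀ {T : Over S} (i j : ι), (F i).obj.obj (op T) → (F j).obj.obj (op T) → Prop)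
    (hres : ∀ {T T' : Over S} (t : T' ⟶ T) (i j : ι) (x : (F i).obj.obj (op T)) (y : (F j).obj.obj (op T)),
      r i j x y → r i j ((F i).obj.map t.op x) ((F j).obj.map t.op y))
    (hrefl : ∀ {T : Over S} (i : ι) (x : (F i).obj.obj (op T)), r i i x x)
    (hsymm : ∀ {T : Over S} (i j : ι) (x : (F i).obj.obj (op T)) (y : (F j).obj.obj (op T)), r i j x y → r j i y x)
    (htrans : ∀ {T : Over S} (i j k : ι) (x : (F i).obj.obj (op T)) (y : (F j).obj.obj (op T))
      (z : (F k).obj.obj (op T)), r i j x y → r j k y z → r i k x z)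
    (hloc : ∀ {T : Over S} {κ : Type u} {V : κ → Over S} {g : ∀ k, V k ⟶ T} (_ : Fam g) (i j : ι)
      (x : (F i).obj.obj (op T)) (y : (F j).obj.obj (op T)),
      (∀ k, r i j ((F i).obj.map (g k).op x) ((F j).obj.map (g k).op y)) → r i j x y) :
    ∃ (Q : Sp S) (v : ∀ i, F i ⟶ Q), JSurj v ∧ ∀ (i j : ι) {T : Over S} (x : (F i).obj.obj (op T))
      (y : (F j).obj.obj (op T)), (v i).hom.app (op T) x = (v j).hom.app (op T) y ↔ r i j x y := by
  let rel : ∀ T : Over S, (Σ i, (F i).obj.obj (op T)) → (Σ i, (F i).obj.obj (op T)) → Prop :=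
    fun T a b => r a.1 b.1 a.2 b.2
  have hrel : ∀ T, Equivalence (rel T) := fun T =>
    ⟨fun a => hrefl a.1 a.2, fun {a b} h => hsymm a.1 b.1 a.2 b.2 h,
      fun {a b c} h h' => htrans a.1 b.1 c.1 a.2 b.2 c.2 h h'⟩
  let P : (Over S)ᵒᵖ ⥤ Type (u + 1) :=
    { obj := fun T => _root_.Quot (rel T.unop)
      map := fun {T T'} g => ↾(_root_.Quot.map (fun a => (⟨a.1, (F a.1).obj.map g a.2⟩ : Σ i, (F i).obj.obj T'))
        (fun a b h => hres g.unop a.1 b.1 a.2 b.2 h))
      map_id := fun T => by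
        ext x
        induction x using _root_.Quot.ind with
        | _ a =>
          change _root_.Quot.mk _ (⟨a.1, (F a.1).obj.map (𝟙 T) a.2⟩ : Σ i, (F i).obj.obj T) = _root_.Quot.mk _ a
          rw [(F a.1).obj.map_id]
          rfl
      map_comp := fun {T T' T''} g h => by
        ext x
        induction x using _root_.Quot.ind with
        | _ a =>
          change _root_.Quot.mk _ (⟨a.1, (F a.1).obj.map (g ≫ h) a.2⟩ : Σ i, (F i).obj.obj T'') =
            _root_.Quot.mk _ (⟨a.1, (F a.1).obj.map h ((F a.1).obj.map g a.2)⟩ : Σ i, (F i).obj.obj T'')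
          rw [(F a.1).obj.map_comp]
          rfl }
  let Q : Sp S := (presheafToSheaf (J S) (Type (u + 1))).obj P
  let η : P ⟶ Q.obj := toSheafify (J S) P
  let cl : ∀ (i : ι) {T : Over S}, (F i).obj.obj (op T) → P.obj (op T) := fun i T x => _root_.Quot.mk _ ⟨i, x⟩
  let v : ∀ i, F i ⟶ Q := fun i =>
    ⟨{ app := fun T => ↾(fun x => η.app T (cl i x))
       naturality := fun T T' g => by
        ext x
        exact NatTrans.naturality_apply η g (cl i x) }⟩
  have hv : ∀ (i : ι) {T : Over S} (x : (F i).obj.obj (op T)), (v i).hom.app (op T) x = η.app (op T) (cl i x) :=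
    fun i T x => rfl
  refine ⟨Q, v, ?_, ?_⟩
  · intro T y
    have h3 : Presheaf.IsLocallySurjective (J S) η := inferInstance
    obtain ⟨κ, V, g, hg, hR⟩ := exists_fam_of_mem (h3.imageSieve_mem y)
    choose x hx using hR
    have hx' : ∀ k, ∃ (i : ι) (z : (F i).obj.obj (op (V k))), cl i z = x k := fun k => by
      obtain ⟨a, ha⟩ := _root_.Quot.exists_rep (x k)
      exact ⟨a.1, a.2, ha⟩
    choose i z hz using hx'
    refine ⟨κ, V, g, hg, i, z, fun k => ?_⟩
    rw [hv, hz]
    exact hx k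
  · intro i j T x y
    rw [hv, hv]
    constructor
    · intro h
      obtain ⟨κ, V, g, hg, hR⟩ := exists_fam_of_mem (Presheaf.equalizerSieve_mem (J S) η _ _ h)
      refine hloc hg i j x y fun k => ?_
      have h1 : (_root_.Quot.mk (rel (V k)) ⟨i, (F i).obj.map (g k).op x⟩) =
        (_root_.Quot.mk (rel (V k)) ⟨j, (F j).obj.map (g k).op y⟩) := hR k
      exact (hrel (V k)).eqvGen_iff.1 (_root_.Quot.eqvGen_exact h1)
    · intro h
      exact congrArg (η.app (op T)) (_root_.Quot.sound h)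

end Quot

/-- `p : A ⟶ M` is universal among maps to algebraic spaces. -/
def Uni {A M : Sp S} (p : A ⟶ M) : Prop :=
  ∀ (N : Sp S), IsAlgSpace N → ∀ φ : A ⟶ N, ∃! g : M ⟶ N, p ≫ g = φ

/-- `p : A ⟶ M` is universal among maps to algebraic spaces, and so are its flat base changes. -/
def FUni {A M : Sp S} (p : A ⟶ M) : Prop :=
  ∀ ⦃M' A' : Sp S⦄ (g : M' ⟶ M) (g' : A' ⟶ A) (p' : A' ⟶ M'), IsAlgSpace M' → LocP @Flat g →
    IsPullback g' p' p g → Uni p'

theorem Uni.hom_ext {A M : Sp S} {p : A ⟶ M} (h : Uni p) {N : Sp S} (hN : IsAlgSpace N) {a b : M ⟶ N}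
    (e : p ≫ a = p ≫ b) : a = b := by
  obtain ⟨g, -, hu⟩ := h N hN (p ≫ a)
  rw [hu a rfl, hu b e.symm]

theorem FUni.uni {A M : Sp S} {p : A ⟶ M} (h : FUni p) (hM : IsAlgSpace M) : Uni p := by
  refine h (𝟙 M) (𝟙 A) p hM ?_ (IsPullback.of_horiz_isIso ⟨by simp⟩)
  exact K597.locP_of_repWith (P := @Flat) (fun A B C e f he hf => by
    have : Etale e := he
    have : Flat f := hf
    exact (inferInstance : Flat (e ≫ f))) (MorphismProperty.id_mem (RepWith @Flat) M)

theorem FUni.bc {A M A' M' : Sp S} {p : A ⟶ M} (h : FUni p) (hM : IsAlgSpace M) (hM' : IsAlgSpace M')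
    {g : M' ⟶ M} {g' : A' ⟶ A} {p' : A' ⟶ M'} (sq : IsPullback g' p' p g) (hg : LocP @Flat g) : FUni p' := by
  intro M'' A'' k k' p'' hM'' hk sq'
  exact h (k ≫ g) (k' ≫ g') p'' hM'' (K597.locP_comp K597.etLoc_flat hM''.hasAtlas hM'.hasAtlas hM.hasAtlas hk hg)
    (sq'.paste_horiz sq)

end K161.KM
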