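import Groth.Agent.AlgSt.K161.Glue

/-!
# Gluing data for universal maps to algebraic spaces

`GD S` : a jointly locally surjective family `g i : B i ⟶ A`, maps `π i : B i ⟶ M i` to schemes, universal after flat
base change and bijective on geometric points, and étale separated `p i j : R i j ⟶ M i`, `q i j : R i j ⟶ M j` with
`B i ×_A B j = B i ×_(M i) R i j = B j ×_(M j) R i j`.  `GD.exists_glue`: the quotient `Q` of the disjoint union of the
`M i` by the relation `R` is an algebraic space with étale separated `v i : M i ⟶ Q`, and there is `π : A ⟶ Q` with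
`B i = A ×_Q M i`, universal after flat base change and bijective on geometric points.
-/

set_option autoImplicit false
set_option backward.isDefEq.respectTransparency.types false
universe u
open CategoryTheory CategoryTheory.Limits AlgebraicGeometry Opposite AlgSp

namespace K161.KM

open K594.Elem K594.Cover

variable {S : Scheme.{u}}

/-- Two maps to an étale scheme which agree below and on geometric points agree. -/
theorem eq_of_geomPt {X Y T : Scheme.{u}} (f : X ⟶ Y) [Etale f] (c c' : T ⟶ X) (h : c ≫ f = c' ≫ f)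
    (hg : ∀ (Ω : Type u) [Field Ω] [IsAlgClosed Ω] (t : Spec (CommRingCat.of Ω) ⟶ T), t ≫ c = t ≫ c') : c = c' := by
  let d : T ⟶ pullback f f := pullback.lift c c' h
  have hΔ : IsOpenImmersion (pullback.diagonal f) := inferInstance
  have h1 : Surjective (pullback.fst d (pullback.diagonal f)) := by
    refine K746.GeomIso.surjective_of_geomPt _ fun Ω _ _ y => ?_
    refine ⟨pullback.lift y (y ≫ c) ?_, pullback.lift_fst _ _ _⟩
    apply pullback.hom_ext
    · rw [Category.assoc, Category.assoc, pullback.diagonal_fst, Category.comp_id]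
      exact congrArg (fun z => y ≫ z) (pullback.lift_fst _ _ _)
    · rw [Category.assoc, Category.assoc, pullback.diagonal_snd, Category.comp_id, hg]
      exact congrArg (fun z => y ≫ z) (pullback.lift_snd _ _ _)
  have h2 : IsIso (pullback.fst d (pullback.diagonal f)) :=
    isIso_of_isOpenImmersion_of_opensRange_eq_top _ (by
      rw [← top_le_iff]
      intro y _
      exact (pullback.fst d (pullback.diagonal f)).surjective y)
  have h3 : d = inv (pullback.fst d (pullback.diagonal f)) ≫ pullback.snd d (pullback.diagonal f) ≫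
      pullback.diagonal f := by
    rw [← pullback.condition, IsIso.inv_hom_id_assoc]
  have e1 : d ≫ pullback.fst f f = c := pullback.lift_fst _ _ _
  have e2 : d ≫ pullback.snd f f = c' := pullback.lift_snd _ _ _
  rw [← e1, ← e2, h3]
  simp

/-- Bijectivity on geometric points. -/
def GeoBij {B M : Sp S} (p : B ⟶ M) : Prop :=
  ∀ (Ω : Type u) [Field Ω] [IsAlgClosed Ω] (t : Spec (CommRingCat.of Ω) ⟶ S),
    Function.Bijective (p.hom.app (op (Over.mk t)))

theorem GeoBij.bc {B M B' M' : Sp S} {p : B ⟶ M} (h : GeoBij p) {g : M' ⟶ M} {g' : B' ⟶ B} {p' : B' ⟶ M'}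
    (sq : IsPullback g' p' p g) : GeoBij p' := by
  obtain ⟨hw, hi, hl⟩ := (isPullback_iff _ _ _ _).1 sq
  intro Ω _ _ t
  refine ⟨fun x y hxy => ?_, fun m => ?_⟩
  · refine hi _ x y ((h Ω t).1 ?_) hxy
    rw [← comp_app, ← comp_app, hw, comp_app, comp_app, hxy]
  · obtain ⟨b, hb⟩ := (h Ω t).2 (g.hom.app _ m)
    obtain ⟨z, -, hz⟩ := hl _ b m hb
    exact ⟨z, hz⟩

/-- Over a geometric point jointly surjective families are surjective. -/
theorem JSurj.exists_geom {ι : Type u} {F : ι → Sp S} {G : Sp S} {f : ∀ i, F i ⟶ G} (h : JSurj f) {Ω : Type u}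
    [Field Ω] [IsAlgClosed Ω] (t : Spec (CommRingCat.of Ω) ⟶ S) (y : G.obj.obj (op (Over.mk t))) :
    ∃ (i : ι) (x : (F i).obj.obj (op (Over.mk t))), (f i).hom.app _ x = y := by
  obtain ⟨κ, V, g, hg, i, x, hx⟩ := h y
  obtain ⟨Y, a, _, ⟨k⟩, hk⟩ := K746.AlgPt.mem_of_mem_J t hg.mem
  refine ⟨i k, (F (i k)).obj.map a.op (x k), ?_⟩
  rw [app_map, hx, ← map_comp_apply, hk, map_id_apply]

/-- Gluing data. -/
structure GD (S : Scheme.{u}) where
  ι : Type u
  A : Sp S
  B : ι → Sp S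
  M : ι → Over S
  g : ∀ i, B i ⟶ A
  π : ∀ i, B i ⟶ (yon S).obj (M i)
  B2 : ι → ι → Sp S
  fst : ∀ i j, B2 i j ⟶ B i
  snd : ∀ i j, B2 i j ⟶ B j
  sq : ∀ i j, IsPullback (fst i j) (snd i j) (g i) (g j)
  R : ι → ι → Over S
  ρ : ∀ i j, B2 i j ⟶ (yon S).obj (R i j)
  p : ∀ i j, R i j ⟶ M i
  q : ∀ i j, R i j ⟶ M j
  sqp : ∀ i j, IsPullback (fst i j) (ρ i j) (π i) ((yon S).map (p i j))
  sqq : ∀ i j, IsPullback (snd i j) (ρ i j) (π j) ((yon S).map (q i j))
  etp : ∀ i j, Etale (p i j).left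
  sep : ∀ i j, IsSeparated (p i j).left
  etq : ∀ i j, Etale (q i j).left
  seq : ∀ i j, IsSeparated (q i j).left
  jsurj : JSurj g
  funi : ∀ i, FUni (π i)
  geo : ∀ i, GeoBij (π i)

namespace GD

variable (D : GD S)

theorem locP_flat_of_etale {U V : Over S} (a : U ⟶ V) (h : Etale a.left) : LocP @Flat ((yon S).map a) :=
  K597.locP_of_repWith (P := @Flat) (fun A B C e f he hf => by
    have : Etale e := he
    have : Flat f := hf
    exact (inferInstance : Flat (e ≫ f))) ((repWith_yon_map_iff _ a).2 (inferInstance : Flat a.left))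

/-- The relation is a monomorphism. -/
theorem ext_R {i j : D.ι} {T : Over S} {c c' : T ⟶ D.R i j} (h1 : c ≫ D.p i j = c' ≫ D.p i j)
    (h2 : c ≫ D.q i j = c' ≫ D.q i j) : c = c' := by
  have := D.etp i j
  ext
  refine eq_of_geomPt (D.p i j).left c.left c'.left (by rw [← Over.comp_left, ← Over.comp_left, h1]) ?_
  intro Ω _ _ t
  obtain ⟨-, hpi, hpl⟩ := (isPullback_iff _ _ _ _).1 (D.sqp i j)
  obtain ⟨hsw, hsi, hsl⟩ := (isPullback_iff _ _ _ _).1 (D.sq i j)
  let t' : Spec (CommRingCat.of Ω) ⟶ S := t ≫ T.hom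
  let τ : Over.mk t' ⟶ T := Over.homMk t rfl
  let x : ((yon S).obj (D.R i j)).obj.obj (op (Over.mk t')) := ⟨τ ≫ c⟩
  let x' : ((yon S).obj (D.R i j)).obj.obj (op (Over.mk t')) := ⟨τ ≫ c'⟩
  obtain ⟨b, hb⟩ := (D.geo i Ω t').2 (((yon S).map (D.p i j)).hom.app _ x)
  have e1 : ((yon S).map (D.p i j)).hom.app _ x = ((yon S).map (D.p i j)).hom.app _ x' := by
    apply congrArg ULift.up
    change (τ ≫ c) ≫ D.p i j = (τ ≫ c') ≫ D.p i j
    rw [Category.assoc, Category.assoc, h1]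
  obtain ⟨z, hz1, hz2⟩ := hpl _ b x hb
  obtain ⟨z', hz1', hz2'⟩ := hpl _ b x' (hb.trans e1)
  have hw : ∀ (y : (D.B2 i j).obj.obj (op (Over.mk t'))), (D.π j).hom.app _ ((D.snd i j).hom.app _ y) =
      ((yon S).map (D.q i j)).hom.app _ ((D.ρ i j).hom.app _ y) := by
    intro y
    rw [← comp_app, ← comp_app, (D.sqq i j).w]
  have e2 : (D.snd i j).hom.app _ z = (D.snd i j).hom.app _ z' := by
    apply (D.geo j Ω t').1
    rw [hw, hw, hz2, hz2']
    apply congrArg ULift.up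
    change (τ ≫ c) ≫ D.q i j = (τ ≫ c') ≫ D.q i j
    rw [Category.assoc, Category.assoc, h2]
  have e3 : z = z' := hsi _ _ _ (hz1.trans hz1'.symm) e2
  have e4 : x = x' := by rw [← hz2, ← hz2', e3]
  exact congrArg CommaMorphism.left (congrArg ULift.down e4)

theorem uni_ρ (i j : D.ι) : FUni (D.ρ i j) :=
  (D.funi i).bc (IsAlgSpace.yon_obj _) (IsAlgSpace.yon_obj _) (D.sqp i j) (locP_flat_of_etale _ (D.etp i j))

/-- Reflexivity. -/
theorem exists_refl (i : D.ι) : ∃ δ : D.M i ⟶ D.R i i, δ ≫ D.p i i = 𝟙 _ ∧ δ ≫ D.q i i = 𝟙 _ ∧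
    D.π i ≫ (yon S).map δ = (D.sq i i).lift (𝟙 _) (𝟙 _) rfl ≫ D.ρ i i := by
  have hu := (D.funi i).uni (IsAlgSpace.yon_obj _)
  obtain ⟨δ, hδ, -⟩ := hu _ (IsAlgSpace.yon_obj _) ((D.sq i i).lift (𝟙 _) (𝟙 _) rfl ≫ D.ρ i i)
  obtain ⟨δ, rfl⟩ := (yon S).map_surjective δ
  refine ⟨δ, ?_, ?_, hδ⟩
  · apply (yon S).map_injective
    apply hu.hom_ext (IsAlgSpace.yon_obj _)
    rw [Functor.map_comp, reassoc_of% hδ, ← (D.sqp i i).w, IsPullback.lift_fst_assoc, Category.id_comp,
      CategoryTheory.Functor.map_id, Category.comp_id]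
  · apply (yon S).map_injective
    apply hu.hom_ext (IsAlgSpace.yon_obj _)
    rw [Functor.map_comp, reassoc_of% hδ, ← (D.sqq i i).w, IsPullback.lift_snd_assoc, Category.id_comp,
      CategoryTheory.Functor.map_id, Category.comp_id]

/-- Symmetry. -/
theorem exists_symm (i j : D.ι) : ∃ σ : D.R i j ⟶ D.R j i, σ ≫ D.p j i = D.q i j ∧ σ ≫ D.q j i = D.p i j := by
  have hu := (D.uni_ρ i j).uni (IsAlgSpace.yon_obj _)
  obtain ⟨σ, hσ, -⟩ := hu _ (IsAlgSpace.yon_obj _)
    ((D.sq j i).lift (D.snd i j) (D.fst i j) (D.sq i j).w.symm ≫ D.ρ j i)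
  obtain ⟨σ, rfl⟩ := (yon S).map_surjective σ
  refine ⟨σ, ?_, ?_⟩
  · apply (yon S).map_injective
    apply hu.hom_ext (IsAlgSpace.yon_obj _)
    rw [Functor.map_comp, reassoc_of% hσ, ← (D.sqp j i).w, IsPullback.lift_fst_assoc, (D.sqq i j).w]
  · apply (yon S).map_injective
    apply hu.hom_ext (IsAlgSpace.yon_obj _)
    rw [Functor.map_comp, reassoc_of% hσ, ← (D.sqq j i).w, IsPullback.lift_snd_assoc, (D.sqp i j).w]

/-- Transitivity. -/
theorem exists_trans (i j k : D.ι) : ∃ τ : pullback (D.q i j) (D.p j k) ⟶ D.R i k,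
    τ ≫ D.p i k = pullback.fst _ _ ≫ D.p i j ∧ τ ≫ D.q i k = pullback.snd _ _ ≫ D.q j k := by
  let W := pullback (D.q i j) (D.p j k)
  let w1 : W ⟶ D.R i j := pullback.fst _ _
  let w2 : W ⟶ D.R j k := pullback.snd _ _
  have hw : w1 ≫ D.q i j = w2 ≫ D.p j k := pullback.condition
  have het : Etale w1.left :=
    MorphismProperty.of_isPullback (P := @Etale) ((IsPullback.of_hasPullback (D.q i j) (D.p j k)).flip.map
      (Over.forget S)) (D.etp j k)
  -- base change of `ρ i j` along `w1`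
  let a : pullback (D.ρ i j) ((yon S).map w1) ⟶ D.B2 i j := pullback.fst _ _
  let b : pullback (D.ρ i j) ((yon S).map w1) ⟶ (yon S).obj W := pullback.snd _ _
  have sq : IsPullback a b (D.ρ i j) ((yon S).map w1) := IsPullback.of_hasPullback _ _
  have hu : Uni b := ((D.uni_ρ i j).bc (IsAlgSpace.yon_obj _) (IsAlgSpace.yon_obj _) sq
    (locP_flat_of_etale _ het)).uni (IsAlgSpace.yon_obj _)
  have e1 : (a ≫ D.snd i j) ≫ D.π j = (b ≫ (yon S).map w2) ≫ (yon S).map (D.p j k) := by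
    rw [Category.assoc, (D.sqq i j).w, Category.assoc, ← Functor.map_comp, ← hw, Functor.map_comp,
      ← Category.assoc, sq.w, Category.assoc]
  let z' := (D.sqp j k).lift (a ≫ D.snd i j) (b ≫ (yon S).map w2) e1
  have hz1 : z' ≫ D.fst j k = a ≫ D.snd i j := IsPullback.lift_fst _ _ _ _
  have hz2 : z' ≫ D.ρ j k = b ≫ (yon S).map w2 := IsPullback.lift_snd _ _ _ _
  have e2 : (a ≫ D.fst i j) ≫ D.g i = (z' ≫ D.snd j k) ≫ D.g k := by
    rw [Category.assoc, (D.sq i j).w, Category.assoc, ← (D.sq j k).w, reassoc_of% hz1]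
  let z'' := (D.sq i k).lift (a ≫ D.fst i j) (z' ≫ D.snd j k) e2
  have hz3 : z'' ≫ D.fst i k = a ≫ D.fst i j := IsPullback.lift_fst _ _ _ _
  have hz4 : z'' ≫ D.snd i k = z' ≫ D.snd j k := IsPullback.lift_snd _ _ _ _
  obtain ⟨τ, hτ, -⟩ := hu _ (IsAlgSpace.yon_obj _) (z'' ≫ D.ρ i k)
  obtain ⟨τ, rfl⟩ := (yon S).map_surjective τ
  refine ⟨τ, ?_, ?_⟩
  · apply (yon S).map_injective
    apply hu.hom_ext (IsAlgSpace.yon_obj _)
    rw [Functor.map_comp, reassoc_of% hτ, ← (D.sqp i k).w, reassoc_of% hz3, (D.sqp i j).w, Functor.map_comp,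
      reassoc_of% sq.w]
  · apply (yon S).map_injective
    apply hu.hom_ext (IsAlgSpace.yon_obj _)
    rw [Functor.map_comp, reassoc_of% hτ, ← (D.sqq i k).w, reassoc_of% hz4, (D.sqq j k).w, Functor.map_comp,
      reassoc_of% hz2]

/-- The relation on sections. -/
def Rel {T : Over S} (i j : D.ι) (x : ((yon S).obj (D.M i)).obj.obj (op T))
    (y : ((yon S).obj (D.M j)).obj.obj (op T)) : Prop :=
  ∃ r : T ⟶ D.R i j, r ≫ D.p i j = x.down ∧ r ≫ D.q i j = y.down

/-- The quotient of the disjoint union of the `M i` by the relation. -/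
theorem exists_Q : ∃ (Q : Sp S) (v : ∀ i, (yon S).obj (D.M i) ⟶ Q), JSurj v ∧
    ∀ (i j : D.ι) {T : Over S} (x : ((yon S).obj (D.M i)).obj.obj (op T))
      (y : ((yon S).obj (D.M j)).obj.obj (op T)), (v i).hom.app (op T) x = (v j).hom.app (op T) y ↔ D.Rel i j x y := by
  refine exists_sheaf_quot (fun i => (yon S).obj (D.M i)) (fun {T} i j x y => D.Rel i j x y) ?_ ?_ ?_ ?_ ?_
  · rintro T T' t i j ⟨x⟩ ⟨y⟩ ⟨r, h1, h2⟩
    refine ⟨t ≫ r, ?_, ?_⟩
    · change (t ≫ r) ≫ D.p i j = t ≫ x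
      rw [Category.assoc, h1]
    · change (t ≫ r) ≫ D.q i j = t ≫ y
      rw [Category.assoc, h2]
  · rintro T i ⟨x⟩
    obtain ⟨δ, h1, h2, -⟩ := D.exists_refl i
    exact ⟨x ≫ δ, by rw [Category.assoc, h1, Category.comp_id], by rw [Category.assoc, h2, Category.comp_id]⟩
  · rintro T i j ⟨x⟩ ⟨y⟩ ⟨r, h1, h2⟩
    obtain ⟨σ, h3, h4⟩ := D.exists_symm i j
    exact ⟨r ≫ σ, by rw [Category.assoc, h3, h2], by rw [Category.assoc, h4, h1]⟩
  · rintro T i j k ⟨x⟩ ⟨y⟩ ⟨z⟩ ⟨r, h1, h2⟩ ⟨r', h3, h4⟩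
    obtain ⟨τ, h5, h6⟩ := D.exists_trans i j k
    refine ⟨pullback.lift r r' (h2.trans h3.symm) ≫ τ, ?_, ?_⟩
    · rw [Category.assoc, h5, pullback.lift_fst_assoc, h1]
    · rw [Category.assoc, h6, pullback.lift_snd_assoc, h4]
  · rintro T κ V g hg i j ⟨x⟩ ⟨y⟩ h
    choose r h1 h2 using h
    have h1' : ∀ k, r k ≫ D.p i j = g k ≫ x := h1
    have h2' : ∀ k, r k ≫ D.q i j = g k ≫ y := h2
    obtain ⟨c, hc⟩ := K594.Quot.exists_glue_hom hg r (by
      intro k l Z a b hab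
      apply D.ext_R
      · rw [Category.assoc, Category.assoc, h1', h1', reassoc_of% hab]
      · rw [Category.assoc, Category.assoc, h2', h2', reassoc_of% hab])
    refine ⟨c, ?_, ?_⟩
    · apply K594.Quot.hom_ext_fam hg
      intro k
      rw [reassoc_of% (hc k), h1']
    · apply K594.Quot.hom_ext_fam hg
      intro k
      rw [reassoc_of% (hc k), h2']

end GD

end K161.KM
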