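import Groth.Agent.AlgSt.K161.GlueData

/-!
# The glued universal space
-/

set_option autoImplicit false
set_option backward.isDefEq.respectTransparency.types false
universe u
open CategoryTheory CategoryTheory.Limits AlgebraicGeometry Opposite AlgSp

namespace K161.KM

open K594.Elem K594.Cover K594.FppfRep

variable {S : Scheme.{u}}

/-- étale and separated -/
abbrev EtSep : MorphismProperty Scheme.{u} := @Etale ⊓ @IsSeparated

instance : EtSep.{u}.IsLocalAtTarget Scheme.fppfPrecoverage := by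
  have := K594.Local.etale.{u}
  have := K594.Local.isSeparated.{u}
  exact MorphismProperty.IsLocalAtTarget.inf _ _

instance : EtSep.{u}.IsStableUnderBaseChange :=
  ⟨fun sq h => ⟨MorphismProperty.of_isPullback sq h.1, MorphismProperty.of_isPullback sq h.2⟩⟩

theorem etSep_slqf : EtSep.{u} ≤ Slqf := by
  rintro X Y f ⟨h1, h2⟩
  have : Etale f := h1
  exact ⟨h2, K597.locallyQuasiFinite_of_unramified f, inferInstance⟩

namespace GD

variable (D : GD S)

/-- The result of the gluing. -/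
structure Glued where
  Q : Sp S
  v : ∀ i, (yon S).obj (D.M i) ⟶ Q
  jsurj : JSurj v
  rel : ∀ (i j : D.ι) {T : Over S} (x : ((yon S).obj (D.M i)).obj.obj (op T))
      (y : ((yon S).obj (D.M j)).obj.obj (op T)), (v i).hom.app (op T) x = (v j).hom.app (op T) y ↔ D.Rel i j x y

theorem exists_glued : Nonempty D.Glued := by
  obtain ⟨Q, v, h1, h2⟩ := D.exists_Q
  exact ⟨⟨Q, v, h1, h2⟩⟩

variable {D}

namespace Glued

variable (G : D.Glued)

theorem rel' {i j : D.ι} {T : Over S} (a : T ⟶ D.M i) (b : T ⟶ D.M j) :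
    (G.v i).hom.app (op T) ⟨a⟩ = (G.v j).hom.app (op T) ⟨b⟩ ↔ ∃ r : T ⟶ D.R i j, r ≫ D.p i j = a ∧ r ≫ D.q i j = b :=
  G.rel i j ⟨a⟩ ⟨b⟩

theorem sqR (i j : D.ι) : IsPullback ((yon S).map (D.p i j)) ((yon S).map (D.q i j)) (G.v i) (G.v j) := by
  rw [isPullback_iff]
  refine ⟨?_, ?_, ?_⟩
  · apply K594.Elem.hom_ext
    rintro T ⟨r⟩
    exact (G.rel' (r ≫ D.p i j) (r ≫ D.q i j)).2 ⟨r, rfl, rfl⟩
  · rintro T ⟨a⟩ ⟨b⟩ h1 h2
    exact congrArg ULift.up (D.ext_R (congrArg ULift.down h1) (congrArg ULift.down h2))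
  · rintro T ⟨x⟩ ⟨y⟩ h
    obtain ⟨r, h1, h2⟩ := (G.rel' x y).1 h
    exact ⟨⟨r⟩, congrArg ULift.up h1, congrArg ULift.up h2⟩

theorem repWith_v (i : D.ι) : RepWith EtSep (G.v i) := by
  apply K594.FamRep.repWith_of_fam EtSep etSep_slqf
  intro T y
  obtain ⟨κ, V, g, hg, j, x, hx⟩ := G.jsurj y
  refine ⟨κ, V, g, hg, fun k => ?_⟩
  have hxk := hx k
  generalize x k = xk at hxk
  obtain ⟨xk⟩ := xk
  refine ⟨pullback (D.q i (j k)) xk, pullback.snd _ _, ⟨pullback.fst _ _ ≫ D.p i (j k)⟩, ?_, ?_⟩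
  · rw [← hxk]
    have sq1 : IsPullback (pullback.fst (D.q i (j k)) xk) (pullback.snd (D.q i (j k)) xk) (D.q i (j k)) xk :=
      IsPullback.of_hasPullback _ _
    have sq2 := (sq1.map (yon S)).paste_horiz (G.sqR i (j k))
    have h1 := isRep_of_isPullback (f := G.v i) sq2
    have e1 : secEquiv ((yon S).map xk ≫ G.v (j k)) = (G.v (j k)).hom.app (op (V k)) ⟨xk⟩ := by
      rw [yonEquiv_apply]
      exact ((J S).uliftYonedaEquiv_naturality _ _).symm
    have e2 : secEquiv ((yon S).map (pullback.fst (D.q i (j k)) xk) ≫ (yon S).map (D.p i (j k))) =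
        ⟨pullback.fst _ _ ≫ D.p i (j k)⟩ := by
      rw [← Functor.map_comp]
      have := yonEquiv_apply ((yon S).map (pullback.fst (D.q i (j k)) xk ≫ D.p i (j k))) (𝟙 _)
      rw [map_id_apply] at this
      rw [← this]
      apply congrArg ULift.up
      exact Category.id_comp (pullback.fst (D.q i (j k)) xk ≫ D.p i (j k))
    rw [e1, e2] at h1
    exact h1
  · have sq1 := (IsPullback.of_hasPullback (D.q i (j k)) xk).map (Over.forget S)
    exact MorphismProperty.of_isPullback (P := EtSep) sq1 ⟨D.etq _ _, D.seq _ _⟩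

theorem etale_v (i : D.ι) : RepWith @Etale (G.v i) := K597.repWith_mono (fun _ _ _ h => h.1) (G.repWith_v i)

theorem isAlgSpace : IsAlgSpace G.Q :=
  K594.Atlas.isAlgSpace_of_family G.v (fun i => IsAlgSpace.yon_obj _) G.etale_v G.jsurj

/-- The universal map. -/
theorem exists_π : ∃ π : D.A ⟶ G.Q, ∀ i, D.g i ≫ π = D.π i ≫ G.v i := by
  refine JSurj.exists_desc D.jsurj (fun i => D.π i ≫ G.v i) ?_
  intro i j T x y hxy
  obtain ⟨z, hz1, hz2⟩ := ((isPullback_iff _ _ _ _).1 (D.sq i j)).2.2 T x y hxy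
  rw [← hz1, ← hz2, ← comp_app, ← comp_app, reassoc_of% (D.sqp i j).w, reassoc_of% (D.sqq i j).w, (G.sqR i j).w]

variable {G} {π : D.A ⟶ G.Q} (hπ : ∀ i, D.g i ≫ π = D.π i ≫ G.v i)

include hπ in
theorem sqπ (i : D.ι) : IsPullback (D.g i) (D.π i) π (G.v i) := by
  have hinj : ∀ (T : Over S) (b b' : (D.B i).obj.obj (op T)), (D.g i).hom.app (op T) b = (D.g i).hom.app (op T) b' →
      (D.π i).hom.app (op T) b = (D.π i).hom.app (op T) b' → b = b' := by
    intro T b b' h1 h2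
    obtain ⟨δ, hδ1, hδ2, hδ3⟩ := D.exists_refl i
    obtain ⟨z, hz1, hz2⟩ := ((isPullback_iff _ _ _ _).1 (D.sq i i)).2.2 T b b' h1
    let z0 := ((D.sq i i).lift (𝟙 _) (𝟙 _) rfl).hom.app (op T) b
    have hz01 : (D.fst i i).hom.app _ z0 = b := by
      rw [← comp_app, IsPullback.lift_fst]; rfl
    have hz02 : (D.snd i i).hom.app _ z0 = b := by
      rw [← comp_app, IsPullback.lift_snd]; rfl
    have e1 : (D.ρ i i).hom.app _ z0 = (D.ρ i i).hom.app _ z := by
      have h3 : (D.ρ i i).hom.app _ z0 = ((yon S).map δ).hom.app _ ((D.π i).hom.app _ b) := by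
        rw [← comp_app, ← comp_app, hδ3]
      have h4 : ((yon S).map (D.p i i)).hom.app _ ((D.ρ i i).hom.app _ z) = (D.π i).hom.app _ b := by
        rw [← comp_app, ← (D.sqp i i).w, comp_app, hz1]
      have h5 : ((yon S).map (D.q i i)).hom.app _ ((D.ρ i i).hom.app _ z) = (D.π i).hom.app _ b := by
        rw [← comp_app, ← (D.sqq i i).w, comp_app, hz2, h2]
      rw [h3]
      generalize (D.ρ i i).hom.app _ z = c at h4 h5
      generalize (D.π i).hom.app _ b = m at h4 h5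
      obtain ⟨c⟩ := c
      obtain ⟨m⟩ := m
      apply congrArg ULift.up
      have h4' : c ≫ D.p i i = m := congrArg ULift.down h4
      have h5' : c ≫ D.q i i = m := congrArg ULift.down h5
      change m ≫ δ = c
      apply D.ext_R
      · rw [Category.assoc, hδ1, h4', Category.comp_id]
      · rw [Category.assoc, hδ2, h5', Category.comp_id]
    have e2 : z0 = z := ((isPullback_iff _ _ _ _).1 (D.sqp i i)).2.1 T z0 z (hz01.trans hz1.symm) e1
    rw [← hz2, ← e2, hz02]
  rw [isPullback_iff]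
  refine ⟨hπ i, hinj, fun T a m ham => ?_⟩
  obtain ⟨κ, V, g, hg, j, x, hx⟩ := D.jsurj a
  have key : ∀ k, ∃ b : (D.B i).obj.obj (op (V k)), (D.g i).hom.app _ b = D.A.obj.map (g k).op a ∧
      (D.π i).hom.app _ b = ((yon S).obj (D.M i)).obj.map (g k).op m := by
    intro k
    have h1 : (G.v (j k)).hom.app _ ((D.π (j k)).hom.app _ (x k)) =
        (G.v i).hom.app _ (((yon S).obj (D.M i)).obj.map (g k).op m) := by
      rw [← comp_app, ← hπ, comp_app, hx, app_map, app_map, ham]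
    obtain ⟨r, hr1, hr2⟩ := (G.rel _ _ _ _).1 h1
    obtain ⟨z, hz1, hz2⟩ := ((isPullback_iff _ _ _ _).1 (D.sqp (j k) i)).2.2 _ (x k) ⟨r⟩ (congrArg ULift.up hr1.symm)
    refine ⟨(D.snd (j k) i).hom.app _ z, ?_, ?_⟩
    · rw [← comp_app, ← (D.sq (j k) i).w, comp_app, hz1, hx]
    · rw [← comp_app, (D.sqq (j k) i).w, comp_app, hz2]
      exact congrArg ULift.up hr2
  choose b hb1 hb2 using key
  obtain ⟨c, hc, -⟩ := hg.glue (D.B i) b (by
    intro k l Z s t hst
    apply hinj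
    · rw [app_map, app_map, hb1, hb1, ← map_comp_apply, ← map_comp_apply, hst]
    · rw [app_map, app_map, hb2, hb2, ← map_comp_apply, ← map_comp_apply, hst])
  refine ⟨c, ?_, ?_⟩
  · apply hg.ext
    intro k
    rw [← app_map, hc, hb1]
  · apply hg.ext
    intro k
    rw [← app_map, hc, hb2]

end Glued

end GD

/-- Universality after flat base change is local on the target for jointly surjective étale families. -/
theorem funi_of_local {ι : Type u} {A Q : Sp S} {B M : ι → Sp S} {π : A ⟶ Q} {v : ∀ i, M i ⟶ Q} {g : ∀ i, B i ⟶ A}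
    {p : ∀ i, B i ⟶ M i} (hQ : IsAlgSpace Q) (hM : ∀ i, IsAlgSpace (M i)) (hv : JSurj v)
    (he : ∀ i, LocP @Flat (v i)) (sq : ∀ i, IsPullback (g i) (p i) π (v i)) (h : ∀ i, FUni (p i)) : FUni π := by
  intro Q' A' t t' π' hQ' ht sqA
  -- the general member: a flat map to `Q'` from an algebraic space factoring through some `M i`
  have key : ∀ (i : ι) (W : Sp S) (w : W ⟶ M i) (w' : W ⟶ Q'), IsAlgSpace W → LocP @Flat w → w ≫ v i = w' ≫ t →
      ∀ {P : Sp S} {a : P ⟶ A'} {b : P ⟶ W}, IsPullback a b π' w' → Uni b := by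
    intro i W w w' hW hw hww P a b sqP
    have sq1 : IsPullback (a ≫ t') b π (w' ≫ t) := sqP.paste_horiz sqA
    rw [← hww] at sq1
    exact h i w ((sq i).lift (a ≫ t') (b ≫ w) (by rw [sq1.w, Category.assoc])) b hW hw
      (IsPullback.of_right (by rw [IsPullback.lift_fst]; exact sq1) (by rw [IsPullback.lift_snd]) (sq i))
  -- the family
  let M' : ι → Sp S := fun i => pullback (v i) t
  let m : ∀ i, M' i ⟶ M i := fun i => pullback.fst _ _
  let v' : ∀ i, M' i ⟶ Q' := fun i => pullback.snd _ _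
  have sqv : ∀ i, IsPullback (m i) (v' i) (v i) t := fun i => IsPullback.of_hasPullback _ _
  have hM' : ∀ i, IsAlgSpace (M' i) := fun i => K630.isAlgSpace_of_isPullback (hM i) hQ' hQ (sqv i)
  have hm : ∀ i, LocP @Flat (m i) := fun i =>
    K597.locP_bc K597.etLoc_flat (sqv i).flip hQ'.hasAtlas hQ.hasAtlas (hM i).hasAtlas ht
  have hv' : JSurj v' := hv.bc t sqv
  have hv'f : ∀ i, LocP @Flat (v' i) := fun i =>
    K597.locP_bc K597.etLoc_flat (sqv i) (hM i).hasAtlas hQ.hasAtlas hQ'.hasAtlas (he i)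
  let A'' : ι → Sp S := fun i => pullback π' (v' i)
  let α : ∀ i, A'' i ⟶ A' := fun i => pullback.fst _ _
  let β : ∀ i, A'' i ⟶ M' i := fun i => pullback.snd _ _
  have sqβ : ∀ i, IsPullback (α i) (β i) π' (v' i) := fun i => IsPullback.of_hasPullback _ _
  have hβ : ∀ i, Uni (β i) := fun i => key i _ (m i) (v' i) (hM' i) (hm i) (sqv i).w (sqβ i)
  have hα : JSurj α := hv'.bc' π' sqβ
  intro N hN φ
  choose ψ hψ hψu using fun i => hβ i N hN (α i ≫ φ)
  obtain ⟨Ψ, hΨ⟩ := hv'.exists_desc ψ (by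
    intro i j T x y hxy
    let W := pullback (v' i) (v' j)
    have sqW : IsPullback (pullback.fst (v' i) (v' j)) (pullback.snd (v' i) (v' j)) (v' i) (v' j) :=
      IsPullback.of_hasPullback _ _
    have hW : IsAlgSpace W := K630.isAlgSpace_of_isPullback (hM' i) (hM' j) hQ' sqW
    have hfst : LocP @Flat (pullback.fst (v' i) (v' j)) :=
      K597.locP_bc K597.etLoc_flat sqW.flip (hM' j).hasAtlas hQ'.hasAtlas (hM' i).hasAtlas (hv'f j)
    let w' : W ⟶ Q' := pullback.fst (v' i) (v' j) ≫ v' i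
    have sqP : IsPullback (pullback.fst π' w') (pullback.snd π' w') π' w' := IsPullback.of_hasPullback _ _
    have hu : Uni (pullback.snd π' w') := key i W (pullback.fst _ _ ≫ m i) w' hW
      (K597.locP_comp K597.etLoc_flat hW.hasAtlas (hM' i).hasAtlas (hM i).hasAtlas hfst (hm i))
      (by rw [Category.assoc, (sqv i).w, Category.assoc]) sqP
    have e : pullback.fst (v' i) (v' j) ≫ ψ i = pullback.snd (v' i) (v' j) ≫ ψ j := by
      apply hu.hom_ext hN
      let l1 : pullback π' w' ⟶ A'' i := (sqβ i).lift (pullback.fst π' w') (pullback.snd π' w' ≫ pullback.fst _ _)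
        (by rw [sqP.w, Category.assoc])
      let l2 : pullback π' w' ⟶ A'' j := (sqβ j).lift (pullback.fst π' w') (pullback.snd π' w' ≫ pullback.snd _ _)
        (by rw [sqP.w, Category.assoc, ← sqW.w])
      have e1 : pullback.snd π' w' ≫ pullback.fst (v' i) (v' j) = l1 ≫ β i := (IsPullback.lift_snd _ _ _ _).symm
      have e2 : pullback.snd π' w' ≫ pullback.snd (v' i) (v' j) = l2 ≫ β j := (IsPullback.lift_snd _ _ _ _).symm
      have e3 : l1 ≫ α i = pullback.fst π' w' := IsPullback.lift_fst _ _ _ _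
      have e4 : l2 ≫ α j = pullback.fst π' w' := IsPullback.lift_fst _ _ _ _
      rw [reassoc_of% e1, reassoc_of% e2, hψ, hψ, reassoc_of% e3, reassoc_of% e4]
    obtain ⟨z, hz1, hz2⟩ := ((isPullback_iff _ _ _ _).1 sqW).2.2 T x y hxy
    rw [← hz1, ← hz2, ← comp_app, ← comp_app, e])
  refine ⟨Ψ, ?_, ?_⟩
  · apply hα.hom_ext
    intro i
    rw [reassoc_of% (sqβ i).w, hΨ, hψ]
  · intro Ψ' hΨ'
    apply hv'.hom_ext
    intro i
    rw [hΨ]
    apply hψu
    rw [← reassoc_of% (sqβ i).w, hΨ']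

/-- Bijectivity on geometric points is local on the target. -/
theorem geoBij_of_local {ι : Type u} {A Q : Sp S} {B M : ι → Sp S} {π : A ⟶ Q} {v : ∀ i, M i ⟶ Q} {g : ∀ i, B i ⟶ A}
    {p : ∀ i, B i ⟶ M i} (hv : JSurj v) (sq : ∀ i, IsPullback (g i) (p i) π (v i)) (h : ∀ i, GeoBij (p i)) :
    GeoBij π := by
  intro Ω _ _ t
  refine ⟨fun x y hxy => ?_, fun m => ?_⟩
  · obtain ⟨i, m, hm⟩ := hv.exists_geom t (π.hom.app _ x)
    obtain ⟨b, hb1, hb2⟩ := ((isPullback_iff _ _ _ _).1 (sq i)).2.2 _ x m hm.symm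
    obtain ⟨b', hb1', hb2'⟩ := ((isPullback_iff _ _ _ _).1 (sq i)).2.2 _ y m (hxy.symm.trans hm.symm)
    have : b = b' := (h i Ω t).1 (hb2.trans hb2'.symm)
    rw [← hb1, ← hb1', this]
  · obtain ⟨i, m', hm⟩ := hv.exists_geom t m
    obtain ⟨b, hb⟩ := (h i Ω t).2 m'
    refine ⟨(g i).hom.app _ b, ?_⟩
    rw [← comp_app, (sq i).w, comp_app, hb, hm]

/-- **Gluing.** -/
theorem GD.exists_glue (D : GD S) : ∃ (Q : Sp S) (v : ∀ i, (yon S).obj (D.M i) ⟶ Q) (π : D.A ⟶ Q), IsAlgSpace Q ∧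
    JSurj v ∧ (∀ i, RepWith EtSep (v i)) ∧ (∀ i, IsPullback (D.g i) (D.π i) π (v i)) ∧
    (∀ i j, IsPullback ((yon S).map (D.p i j)) ((yon S).map (D.q i j)) (v i) (v j)) ∧ FUni π ∧ GeoBij π := by
  obtain ⟨G⟩ := D.exists_glued
  obtain ⟨π, hπ⟩ := G.exists_π
  have h1 := fun i => GD.Glued.sqπ hπ i
  refine ⟨G.Q, G.v, π, G.isAlgSpace, G.jsurj, G.repWith_v, h1, G.sqR, ?_, ?_⟩
  · refine funi_of_local G.isAlgSpace (fun i => IsAlgSpace.yon_obj _) G.jsurj (fun i => ?_) h1 D.funi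
    exact K597.locP_of_repWith (P := @Flat) (fun A B C e f he hf => by
      have : Etale e := he
      have : Flat f := hf
      exact (inferInstance : Flat (e ≫ f))) (K597.repWith_mono (fun _ _ f hf => by
        have : Etale f := hf.1
        exact (inferInstance : Flat f)) (G.repWith_v i))
  · exact geoBij_of_local G.jsurj h1 D.geo

end K161.KM
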