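import Groth.Agent.AlgSt.K161.GlueMain
import Groth.Agent.AlgSt.K746.Sec
import Groth.Agent.AlgSt.K734.FibFp

/-!
# The sheaf of isomorphism classes of a category fibred in groupoids

* `Sh h𝒳 : Sp S`, `cl h𝒳 x hx` the class of an object; `exists_local`, `cl_eq_iff`.
* `shDesc h𝒳 Φ : Sh h𝒳 ⟶ N` for `Φ : 𝒳 ⥤ᵇ ofSp N`, `toSp h𝒳 : 𝒳 ⥤ᵇ ofSp (Sh h𝒳)`, `shMap`.
* `isCatModuli_iff` : categorical moduli spaces are the universal maps of `Sh h𝒳` to algebraic spaces.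
* `isPullback_shMap` : 2-fibre products along a functor surjective on automorphisms.
-/

set_option autoImplicit false
set_option backward.isDefEq.respectTransparency false
set_option backward.isDefEq.respectTransparency.types false
universe u
open CategoryTheory CategoryTheory.Limits AlgebraicGeometry Opposite AlgSp

namespace K161.KM

open K594.Elem K594.Cover K734.Fib

variable {S : Scheme.{u}}

theorem mem_of_fam {T : Over S} {κ : Type u} {V : κ → Over S} {g : ∀ k, V k ⟶ T} (hg : Fam g) {R : Sieve T}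
    (h : ∀ k, R.pullback (g k) ∈ J S (V k)) : R ∈ J S T := by
  refine (J S).transitive hg.mem R ?_
  rintro T' _ ⟨_, a, _, ⟨k⟩, rfl⟩
  rw [Sieve.pullback_comp]
  exact (J S).pullback_stable a (h k)

theorem isPullback_of_local {P F G H : Sp S} {fst : P ⟶ F} {snd : P ⟶ G} {f : F ⟶ H} {g : G ⟶ H}
    (w : fst ≫ f = snd ≫ g)
    (hinj : ∀ (T : Over S) (a b : P.obj.obj (op T)), fst.hom.app (op T) a = fst.hom.app (op T) b →
        snd.hom.app (op T) a = snd.hom.app (op T) b → a = b)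
    (hloc : ∀ (T : Over S) (x : F.obj.obj (op T)) (y : G.obj.obj (op T)), f.hom.app (op T) x = g.hom.app (op T) y →
      ∃ R ∈ J S T, ∀ ⦃T' : Over S⦄ (t : T' ⟶ T), R t → ∃ z : P.obj.obj (op T'),
        fst.hom.app (op T') z = F.obj.map t.op x ∧ snd.hom.app (op T') z = G.obj.map t.op y) :
    IsPullback fst snd f g := by
  rw [isPullback_iff]
  refine ⟨w, hinj, fun T x y hxy => ?_⟩
  obtain ⟨R, hR, h⟩ := hloc T x y hxy
  obtain ⟨κ, V, v, hv, hvR⟩ := exists_fam_of_mem hR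
  choose z hz1 hz2 using fun k => h (v k) (hvR k)
  obtain ⟨c, hc, -⟩ := hv.glue P z (by
    intro k l Z a b hab
    apply hinj
    · rw [app_map, app_map, hz1, hz1, ← map_comp_apply, ← map_comp_apply, hab]
    · rw [app_map, app_map, hz2, hz2, ← map_comp_apply, ← map_comp_apply, hab])
  refine ⟨c, ?_, ?_⟩
  · apply hv.ext
    intro k
    rw [← app_map, hc, hz1]
  · apply hv.ext
    intro k
    rw [← app_map, hc, hz2]

section Defs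

variable {𝒳 : AlgSt.Cat S} (h𝒳 : FibCat.IsFibGrpd 𝒳.p)

/-- The sheaf of isomorphism classes. -/
noncomputable def Sh : Sp S := (presheafToSheaf (J S) (Type (u + 1))).obj (isoPsh h𝒳)

noncomputable def shη : isoPsh h𝒳 ⟶ (Sh h𝒳).obj := toSheafify (J S) (isoPsh h𝒳)

/-- The class of an object. -/
noncomputable def cl {T : Over S} (x : 𝒳.obj) (hx : 𝒳.p.obj x = T) : (Sh h𝒳).obj.obj (op T) :=
  (shη h𝒳).app (op T) (cls h𝒳 x hx)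

theorem cl_map {T T' : Over S} {x x' : 𝒳.obj} (hx : 𝒳.p.obj x = T) (hx' : 𝒳.p.obj x' = T') {f : T' ⟶ T}
    {φ : x' ⟶ x} (hφ : 𝒳.p.IsHomLift f φ) : (Sh h𝒳).obj.map f.op (cl h𝒳 x hx) = cl h𝒳 x' hx' := by
  rw [cl, cl, ← NatTrans.naturality_apply, map_cls h𝒳 hx hx' hφ]

theorem cl_eq_of_vert {T : Over S} {x y : 𝒳.obj} (hx : 𝒳.p.obj x = T) (hy : 𝒳.p.obj y = T) {φ : x ⟶ y}
    (hφ : IsVert 𝒳 φ) : cl h𝒳 x hx = cl h𝒳 y hy := by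
  have h1 : 𝒳.p.IsHomLift (𝟙 T) φ := hφ.lift hx
  have := cl_map h𝒳 hy hx h1
  rwa [map_id_apply, eq_comm] at this

theorem exists_local {T : Over S} (a : (Sh h𝒳).obj.obj (op T)) : ∃ R ∈ J S T, ∀ ⦃T' : Over S⦄ (t : T' ⟶ T), R t →
    ∃ (x : 𝒳.obj) (hx : 𝒳.p.obj x = T'), cl h𝒳 x hx = (Sh h𝒳).obj.map t.op a := by
  have h3 : Presheaf.IsLocallySurjective (J S) (shη h𝒳) := by
    unfold shη; infer_instance
  refine ⟨_, h3.imageSieve_mem a, fun T' t ht => ?_⟩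
  obtain ⟨s, hs⟩ := ht
  obtain ⟨x, hx, rfl⟩ := cls_surj h𝒳 s
  exact ⟨x, hx, hs⟩

theorem exists_fam {T : Over S} (a : (Sh h𝒳).obj.obj (op T)) : ∃ (κ : Type u) (V : κ → Over S) (g : ∀ k, V k ⟶ T)
    (_ : Fam g) (x : ∀ _ : κ, 𝒳.obj) (hx : ∀ k, 𝒳.p.obj (x k) = V k),
    ∀ k, cl h𝒳 (x k) (hx k) = (Sh h𝒳).obj.map (g k).op a := by
  obtain ⟨R, hR, h⟩ := exists_local h𝒳 a
  obtain ⟨κ, V, g, hg, hgR⟩ := exists_fam_of_mem hR
  choose x hx hx' using fun k => h (g k) (hgR k)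
  exact ⟨κ, V, g, hg, x, hx, hx'⟩

/-- Two objects have the same class iff they are locally isomorphic. -/
theorem exists_of_cl_eq {T : Over S} {x y : 𝒳.obj} {hx : 𝒳.p.obj x = T} {hy : 𝒳.p.obj y = T}
    (h : cl h𝒳 x hx = cl h𝒳 y hy) : ∃ R ∈ J S T, ∀ ⦃T' : Over S⦄ (t : T' ⟶ T), R t →
      ∃ (z : 𝒳.obj) (α : z ⟶ x) (β : z ⟶ y), 𝒳.p.IsHomLift t α ∧ 𝒳.p.IsHomLift t β := by
  refine ⟨_, Presheaf.equalizerSieve_mem (J S) (toSheafify (J S) (isoPsh h𝒳)) _ _ h, fun T' t ht => ?_⟩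
  have h1 : (isoPsh h𝒳).map t.op (cls h𝒳 x hx) = (isoPsh h𝒳).map t.op (cls h𝒳 y hy) := ht
  obtain ⟨z, α, hα⟩ := exists_lift h𝒳 hx t
  have hz : 𝒳.p.obj z = T' := IsHomLift.domain_eq 𝒳.p t α
  rw [map_cls h𝒳 hx hz hα, eq_comm, map_cls_iff] at h1
  obtain ⟨β, hβ⟩ := h1
  exact ⟨z, α, β, hα, hβ⟩

theorem sh_hom_ext {N : Sp S} {a b : Sh h𝒳 ⟶ N}
    (h : ∀ x : 𝒳.obj, a.hom.app (op (𝒳.p.obj x)) (cl h𝒳 x rfl) = b.hom.app (op (𝒳.p.obj x)) (cl h𝒳 x rfl)) : a = b := by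
  have h' : ∀ {V : Over S} (x : 𝒳.obj) (hx : 𝒳.p.obj x = V),
      a.hom.app (op V) (cl h𝒳 x hx) = b.hom.app (op V) (cl h𝒳 x hx) := by
    rintro V x rfl
    exact h x
  apply K594.Elem.hom_ext
  intro T s
  obtain ⟨κ, V, g, hg, x, hx, hx'⟩ := exists_fam h𝒳 s
  apply hg.ext
  intro k
  rw [← app_map, ← app_map, ← hx']
  exact h' (x k) (hx k)

variable {N M : Sp S}

/-- The map of sheaves attached to a functor. -/
noncomputable def shDesc (Φ : 𝒳 ⥤ᵇ AlgSt.ofSp N) : Sh h𝒳 ⟶ N :=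
  ⟨sheafifyLift (J S) (descPsh h𝒳 Φ) N.property⟩

theorem shDesc_cl (Φ : 𝒳 ⥤ᵇ AlgSt.ofSp N) {T : Over S} (x : 𝒳.obj) (hx : 𝒳.p.obj x = T) :
    (shDesc h𝒳 Φ).hom.app (op T) (cl h𝒳 x hx) = secOf Φ x hx := by
  have h := toSheafify_sheafifyLift (J S) (descPsh h𝒳 Φ) N.property
  exact congrArg (fun k => k.app (op T) (cls h𝒳 x hx)) h

/-- The functor to the sheaf of isomorphism classes. -/
noncomputable def toSp : 𝒳 ⥤ᵇ AlgSt.ofSp (Sh h𝒳) :=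
  BasedFunctor.comp (toPsh h𝒳) (Stk.ofPshMap (shη h𝒳))

theorem toSp_obj (x : 𝒳.obj) : (toSp h𝒳).obj x = ⟨𝒳.p.obj x, cl h𝒳 x rfl⟩ := rfl

theorem toSp_obj' {T : Over S} (x : 𝒳.obj) (hx : 𝒳.p.obj x = T) : (toSp h𝒳).obj x = ⟨T, cl h𝒳 x hx⟩ := by
  subst hx; rfl

theorem secOf_toSp {T : Over S} (x : 𝒳.obj) (hx : 𝒳.p.obj x = T) : secOf (toSp h𝒳) x hx = cl h𝒳 x hx :=
  secOf_eq (toSp h𝒳) hx (toSp_obj' h𝒳 x hx)

theorem secOf_comp_ofSpMap (Φ : 𝒳 ⥤ᵇ AlgSt.ofSp M) (g : M ⟶ N) {T : Over S} (x : 𝒳.obj) (hx : 𝒳.p.obj x = T) :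
    secOf (BasedFunctor.comp Φ (AlgSt.ofSpMap g)) x hx = g.hom.app (op T) (secOf Φ x hx) :=
  secOf_eq _ hx (congrArg (AlgSt.ofSpMap g).obj (secOf_spec Φ x hx))

theorem shDesc_comp (Φ : 𝒳 ⥤ᵇ AlgSt.ofSp M) (g : M ⟶ N) :
    shDesc h𝒳 (BasedFunctor.comp Φ (AlgSt.ofSpMap g)) = shDesc h𝒳 Φ ≫ g := by
  apply sh_hom_ext
  intro x
  rw [comp_app, shDesc_cl, shDesc_cl, secOf_comp_ofSpMap]

theorem shDesc_toSp_comp (a : Sh h𝒳 ⟶ N) : shDesc h𝒳 (BasedFunctor.comp (toSp h𝒳) (AlgSt.ofSpMap a)) = a := by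
  apply sh_hom_ext
  intro x
  rw [shDesc_cl, secOf_comp_ofSpMap, secOf_toSp]

theorem shDesc_eq_iff {Φ Ψ : 𝒳 ⥤ᵇ AlgSt.ofSp N} : shDesc h𝒳 Φ = shDesc h𝒳 Ψ ↔ ∀ z, Φ.obj z = Ψ.obj z := by
  constructor
  · intro h z
    rw [secOf_spec Φ z rfl, secOf_spec Ψ z rfl, ← shDesc_cl h𝒳, ← shDesc_cl h𝒳, h]
  · intro h
    apply sh_hom_ext
    intro x
    rw [shDesc_cl, shDesc_cl]
    exact secOf_eq Φ rfl ((h x).trans (secOf_spec Ψ x rfl))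

/-- Categorical moduli spaces are universal maps out of the sheaf of isomorphism classes. -/
theorem isCatModuli_iff (π : 𝒳 ⥤ᵇ AlgSt.ofSp M) :
    AlgSt.IsCatModuli π ↔ IsAlgSpace M ∧ Uni (shDesc h𝒳 π) := by
  rw [AlgSt.IsCatModuli, K746.isCatModuliIn_iff]
  refine and_congr_right fun _ => ⟨fun h N hN φ => ?_, fun h N hN φ => ?_⟩
  · obtain ⟨g, hg, hu⟩ := h N hN (BasedFunctor.comp (toSp h𝒳) (AlgSt.ofSpMap φ))
    refine ⟨g, ?_, fun g' hg' => hu g' ?_⟩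
    · change shDesc h𝒳 π ≫ g = φ
      rw [← shDesc_comp, (shDesc_eq_iff h𝒳).2 hg, shDesc_toSp_comp]
    · refine (shDesc_eq_iff h𝒳).1 ?_
      rw [shDesc_comp, shDesc_toSp_comp]
      exact hg'
  · obtain ⟨g, hg, hu⟩ := h N hN (shDesc h𝒳 φ)
    refine ⟨g, ?_, fun g' hg' => hu g' ?_⟩
    · refine (shDesc_eq_iff h𝒳).1 ?_
      rw [shDesc_comp, hg]
    · change shDesc h𝒳 π ≫ g' = shDesc h𝒳 φ
      rw [← shDesc_comp]
      exact (shDesc_eq_iff h𝒳).2 hg'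

end Defs

section Map

variable {𝒳 𝒴 𝒵 : AlgSt.Cat S} (h𝒳 : FibCat.IsFibGrpd 𝒳.p) (h𝒴 : FibCat.IsFibGrpd 𝒴.p)
  (h𝒵 : FibCat.IsFibGrpd 𝒵.p)

/-- Functoriality of the sheaf of isomorphism classes. -/
noncomputable def shMap (F : 𝒳 ⥤ᵇ 𝒴) : Sh h𝒳 ⟶ Sh h𝒴 := shDesc h𝒳 (BasedFunctor.comp F (toSp h𝒴))

theorem shMap_cl (F : 𝒳 ⥤ᵇ 𝒴) {T : Over S} (x : 𝒳.obj) (hx : 𝒳.p.obj x = T) :
    (shMap h𝒳 h𝒴 F).hom.app (op T) (cl h𝒳 x hx) = cl h𝒴 (F.obj x) ((F.w_obj x).trans hx) := by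
  rw [shMap, shDesc_cl]
  exact secOf_eq _ hx (toSp_obj' h𝒴 _ _)

theorem shMap_shDesc {N : Sp S} (F : 𝒳 ⥤ᵇ 𝒴) (Φ : 𝒴 ⥤ᵇ AlgSt.ofSp N) :
    shMap h𝒳 h𝒴 F ≫ shDesc h𝒴 Φ = shDesc h𝒳 (BasedFunctor.comp F Φ) := by
  apply sh_hom_ext
  intro x
  rw [comp_app, shMap_cl, shDesc_cl, shDesc_cl]
  exact (secOf_eq (BasedFunctor.comp F Φ) rfl (secOf_spec Φ (F.obj x) _)).symm

theorem shMap_comp (F : 𝒳 ⥤ᵇ 𝒴) (G : 𝒴 ⥤ᵇ 𝒵) :
    shMap h𝒳 h𝒵 (BasedFunctor.comp F G) = shMap h𝒳 h𝒴 F ≫ shMap h𝒴 h𝒵 G := by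
  apply sh_hom_ext
  intro x
  rw [comp_app, shMap_cl, shMap_cl, shMap_cl]
  rfl

theorem shMap_id : shMap h𝒳 h𝒳 (BasedFunctor.id 𝒳) = 𝟙 _ := by
  apply sh_hom_ext
  intro x
  rw [shMap_cl]
  rfl

theorem shMap_of_iso {F G : 𝒳 ⥤ᵇ 𝒴} (e : F ≅ G) : shMap h𝒳 h𝒴 F = shMap h𝒳 h𝒴 G := by
  apply sh_hom_ext
  intro x
  rw [shMap_cl, shMap_cl]
  exact cl_eq_of_vert h𝒴 _ _ (app_vert e x)

theorem isIso_shMap {F : 𝒳 ⥤ᵇ 𝒴} (hF : FibCat.IsEquivOver F) : IsIso (shMap h𝒳 h𝒴 F) := by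
  obtain ⟨G, -, ⟨α⟩, ⟨β⟩⟩ := exists_inverse hF
  refine ⟨shMap h𝒴 h𝒳 G, ?_, ?_⟩
  · rw [← shMap_comp, shMap_of_iso h𝒳 h𝒳 α, shMap_id]
  · rw [← shMap_comp, shMap_of_iso h𝒴 h𝒴 β, shMap_id]

/-- surjectivity on vertical automorphisms -/
def AutSurj (F : 𝒳 ⥤ᵇ 𝒵) : Prop :=
  ∀ (x : 𝒳.obj) (σ : F.obj x ⟶ F.obj x), IsVert 𝒵 σ → ∃ τ : x ⟶ x, IsVert 𝒳 τ ∧ F.map τ = σ

/-- Fibre products along a functor surjective on automorphisms. -/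
theorem isPullback_shMap (F : 𝒳 ⥤ᵇ 𝒵) (G : 𝒴 ⥤ᵇ 𝒵) (hF : AutSurj F) (hP : FibCat.IsFibGrpd (FibCat.fp F G).p) :
    IsPullback (shMap hP h𝒳 (FibCat.fpFst F G)) (shMap hP h𝒴 (FibCat.fpSnd F G)) (shMap h𝒳 h𝒵 F) (shMap h𝒴 h𝒵 G) := by
  have hobj : ∀ {V : Over S} {z : (FibCat.fp F G).obj}, (FibCat.fp F G).p.obj z = V → 𝒳.p.obj z.obj.fst = V :=
    fun h => h
  have hobj2 : ∀ {V : Over S} {z : (FibCat.fp F G).obj}, (FibCat.fp F G).p.obj z = V → 𝒴.p.obj z.obj.snd = V :=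
    fun {V z} h => ((FibCat.fpSnd F G).w_obj z).trans h
  -- strict isomorphisms of the two components
  have A : ∀ {V : Over S} {z z' : (FibCat.fp F G).obj} (hz : (FibCat.fp F G).p.obj z = V)
      (hz' : (FibCat.fp F G).p.obj z' = V) (α : z.obj.fst ⟶ z'.obj.fst) (β : z.obj.snd ⟶ z'.obj.snd),
      IsVert 𝒳 α → IsVert 𝒴 β → cl hP z hz = cl hP z' hz' := by
    intro V z z' hz hz' α β hα hβ
    have i1 := isIso_of_vert h𝒳 hα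
    have i2 := isIso_of_vert h𝒴 hβ
    obtain ⟨τ, hτ, e⟩ := hF z.obj.fst (z.obj.iso.hom ≫ G.map β ≫ z'.obj.iso.inv ≫ F.map (CategoryTheory.inv α))
      ((iso_vert z).comp ((hβ.map G).comp ((iso_vert z').inv.comp ((IsVert.isIso_inv hα).map F))))
    refine cl_eq_of_vert hP hz hz' (φ := mkHomFp (τ ≫ α) β ?_) (vert_fp_iff_fst.2 (hτ.comp hα))
    rw [F.toFunctor.map_comp]
    erw [e]
    simp only [Category.assoc]
    rw [← F.toFunctor.map_comp_assoc, IsIso.inv_hom_id, F.toFunctor.map_id, Category.id_comp, Iso.inv_hom_id,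
      Category.comp_id]
  -- transport of vertical isomorphisms to restrictions
  have tr : ∀ {𝒲 : AlgSt.Cat S} (h𝒲 : FibCat.IsFibGrpd 𝒲.p) {T V : Over S} {t : V ⟶ T} {x y x' y' : 𝒲.obj}
      {z : 𝒲.obj} {α : z ⟶ x} {β : z ⟶ y} {a : x' ⟶ x} {b : y' ⟶ y}, 𝒲.p.IsHomLift t α → 𝒲.p.IsHomLift t β →
      𝒲.p.IsHomLift t a → 𝒲.p.IsHomLift t b → ∃ φ : x' ⟶ y', IsVert 𝒲 φ := by
    intro 𝒲 h𝒲 T V t x y x' y' z α β a b hα hβ ha hb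
    obtain ⟨e, he, -⟩ := exists_iso_of_lift h𝒲 ha hα
    obtain ⟨e', he', -⟩ := exists_iso_of_lift h𝒲 hβ hb
    exact ⟨e.hom ≫ e'.hom, he.comp he'⟩
  have hfst : ∀ {T V : Over S} {t : V ⟶ T} {z z' : (FibCat.fp F G).obj} {m : z' ⟶ z},
      (FibCat.fp F G).p.IsHomLift t m → 𝒳.p.IsHomLift t m.hom.fst := fun {T V t z z' m} h =>
    (FibCat.fpFst F G).preserves_isHomLift t m
  have hsnd : ∀ {T V : Over S} {t : V ⟶ T} {z z' : (FibCat.fp F G).obj} {m : z' ⟶ z},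
      (FibCat.fp F G).p.IsHomLift t m → 𝒴.p.IsHomLift t m.hom.snd := fun {T V t z z' m} h =>
    (FibCat.fpSnd F G).preserves_isHomLift t m
  -- injectivity on classes of objects
  have B : ∀ {V : Over S} {z z' : (FibCat.fp F G).obj} (hz : (FibCat.fp F G).p.obj z = V)
      (hz' : (FibCat.fp F G).p.obj z' = V), cl h𝒳 z.obj.fst (hobj hz) = cl h𝒳 z'.obj.fst (hobj hz') →
      cl h𝒴 z.obj.snd (hobj2 hz) = cl h𝒴 z'.obj.snd (hobj2 hz') → cl hP z hz = cl hP z' hz' := by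
    intro V z z' hz hz' h1 h2
    obtain ⟨R₁, hR₁, h1'⟩ := exists_of_cl_eq h𝒳 h1
    obtain ⟨R₂, hR₂, h2'⟩ := exists_of_cl_eq h𝒴 h2
    obtain ⟨κ, W, g, hg, hgR⟩ := exists_fam_of_mem ((J S).intersection_covering hR₁ hR₂)
    apply hg.ext
    intro k
    obtain ⟨w, m, hm⟩ := exists_lift hP hz (g k)
    obtain ⟨w', m', hm'⟩ := exists_lift hP hz' (g k)
    have hw : (FibCat.fp F G).p.obj w = W k := IsHomLift.domain_eq (FibCat.fp F G).p (g k) m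
    have hw' : (FibCat.fp F G).p.obj w' = W k := IsHomLift.domain_eq (FibCat.fp F G).p (g k) m'
    rw [cl_map hP hz hw hm, cl_map hP hz' hw' hm']
    obtain ⟨_, α, β, hα, hβ⟩ := h1' (g k) (hgR k).1
    obtain ⟨_, α', β', hα', hβ'⟩ := h2' (g k) (hgR k).2
    obtain ⟨φ, hφ⟩ := tr h𝒳 hα hβ (hfst hm) (hfst hm')
    obtain ⟨ψ, hψ⟩ := tr h𝒴 hα' hβ' (hsnd hm) (hsnd hm')
    exact A hw hw' φ ψ hφ hψ
  refine isPullback_of_local ?_ ?_ ?_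
  · apply sh_hom_ext
    intro z
    rw [comp_app, comp_app, shMap_cl, shMap_cl, shMap_cl, shMap_cl]
    exact cl_eq_of_vert h𝒵 _ _ (iso_vert z)
  · intro T a b h1 h2
    obtain ⟨R₁, hR₁, ha⟩ := exists_local hP a
    obtain ⟨R₂, hR₂, hb⟩ := exists_local hP b
    obtain ⟨κ, W, g, hg, hgR⟩ := exists_fam_of_mem ((J S).intersection_covering hR₁ hR₂)
    apply hg.ext
    intro k
    obtain ⟨z, hz, e1⟩ := ha (g k) (hgR k).1
    obtain ⟨z', hz', e2⟩ := hb (g k) (hgR k).2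
    rw [← e1, ← e2]
    apply B hz hz'
    · have h3 := congrArg ((Sh h𝒳).obj.map (g k).op) h1
      rw [← app_map, ← app_map, ← e1, ← e2, shMap_cl, shMap_cl] at h3
      exact h3
    · have h3 := congrArg ((Sh h𝒴).obj.map (g k).op) h2
      rw [← app_map, ← app_map, ← e1, ← e2, shMap_cl, shMap_cl] at h3
      exact h3
  · intro T x y hxy
    let R : Sieve T :=
      { arrows := fun T' t => ∃ (z : (FibCat.fp F G).obj) (hz : (FibCat.fp F G).p.obj z = T'),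
          cl h𝒳 z.obj.fst (hobj hz) = (Sh h𝒳).obj.map t.op x ∧ cl h𝒴 z.obj.snd (hobj2 hz) = (Sh h𝒴).obj.map t.op y
        downward_closed := by
          rintro T' T'' t ⟨z, hz, h1, h2⟩ s
          obtain ⟨z', m, hm⟩ := exists_lift hP hz s
          have hz' : (FibCat.fp F G).p.obj z' = T'' := IsHomLift.domain_eq (FibCat.fp F G).p s m
          refine ⟨z', hz', ?_, ?_⟩
          · rw [map_comp_apply, ← h1, cl_map h𝒳 (hobj hz) (hobj hz') (hfst hm)]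
          · rw [map_comp_apply, ← h2, cl_map h𝒴 (hobj2 hz) (hobj2 hz') (hsnd hm)] }
    refine ⟨R, ?_, fun T' t ht => ?_⟩
    · obtain ⟨R₁, hR₁, hx⟩ := exists_local h𝒳 x
      obtain ⟨R₂, hR₂, hy⟩ := exists_local h𝒴 y
      obtain ⟨κ, W, g, hg, hgR⟩ := exists_fam_of_mem ((J S).intersection_covering hR₁ hR₂)
      refine mem_of_fam hg fun k => ?_
      obtain ⟨a, ha, e1⟩ := hx (g k) (hgR k).1
      obtain ⟨b, hb, e2⟩ := hy (g k) (hgR k).2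
      have h3 := congrArg ((Sh h𝒵).obj.map (g k).op) hxy
      rw [← app_map, ← app_map, ← e1, ← e2, shMap_cl, shMap_cl] at h3
      obtain ⟨R₃, hR₃, h4⟩ := exists_of_cl_eq h𝒵 h3
      refine (J S).superset_covering ?_ hR₃
      intro W' t ht
      obtain ⟨c, γ, δ, hγ, hδ⟩ := h4 t ht
      obtain ⟨a', α, hα⟩ := exists_lift h𝒳 ha t
      obtain ⟨b', β, hβ⟩ := exists_lift h𝒴 hb t
      have ha' : 𝒳.p.obj a' = W' := IsHomLift.domain_eq 𝒳.p t α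
      have hb' : 𝒴.p.obj b' = W' := IsHomLift.domain_eq 𝒴.p t β
      obtain ⟨φ, hφ⟩ := tr h𝒵 hγ hδ (F.preserves_isHomLift t α) (G.preserves_isHomLift t β)
      have := isIso_of_vert h𝒵 hφ
      refine ⟨mkObj a' b' (asIso φ) hφ, ha', ?_, ?_⟩
      · rw [map_comp_apply, ← e1, cl_map h𝒳 ha ha' hα]; rfl
      · rw [map_comp_apply, ← e2, cl_map h𝒴 hb hb' hβ]; rfl
    · obtain ⟨z, hz, h1, h2⟩ := ht
      refine ⟨cl hP z hz, ?_, ?_⟩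
      · rw [shMap_cl]; exact h1
      · rw [shMap_cl]; exact h2

end Map

end K161.KM
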