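import Groth.Agent.AlgSt.K161.Cov

/-!
# The Keel–Mori moduli space

* `Cov.exists_km` : the moduli space of a stack covered by well-nigh affine stacks;
* `main16692`.
-/

set_option autoImplicit false
set_option backward.isDefEq.respectTransparency false
set_option backward.isDefEq.respectTransparency.types false
universe u
open CategoryTheory CategoryTheory.Limits AlgebraicGeometry Opposite AlgSp

namespace K161.KM

open K594.Elem K594.Cover K734.Fib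

variable {S : Scheme.{u}}

section Pts

/-- Jointly locally surjective families are jointly surjective on points. -/
theorem JSurj.points {ι : Type u} {F : ι → Sp S} {G : Sp S} {f : ∀ i, F i ⟶ G} (h : JSurj f)
    (y : AlgSt.Points (AlgSt.ofSp G)) : ∃ i, y ∈ Set.range (AlgSt.Points.map (AlgSt.ofSpMap (f i))) := by
  obtain ⟨p, rfl⟩ := AlgSt.Points.mk_surjective y
  let Ω := AlgebraicClosure p.K
  let c : Spec (CommRingCat.of Ω) ⟶ Spec (CommRingCat.of p.K) := Spec.map (CommRingCat.ofHom (algebraMap p.K Ω))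
  let t : Spec (CommRingCat.of Ω) ⟶ S := c ≫ p.str
  let τ : (Over.mk t : Over S) ⟶ Over.mk p.str := Over.homMk c rfl
  obtain ⟨b, β, hβ⟩ := exists_lift (isFibGrpd_ofSp G) p.lies τ
  have hb : (AlgSt.ofSp G).p.obj b = Over.mk t := IsHomLift.domain_eq (AlgSt.ofSp G).p τ β
  obtain ⟨m, hm⟩ := exists_sec (BasedFunctor.id (AlgSt.ofSp G)) b hb
  have hm : b = ⟨Over.mk t, m⟩ := hm
  obtain ⟨i, x, hx⟩ := h.exists_geom t m
  refine ⟨i, AlgSt.Points.mk { K := Ω, field := inferInstance, str := t, obj := ⟨Over.mk t, x⟩, lies := rfl }, ?_⟩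
  refine K735.Pts.mk_eq_of_hom (q := p) ?_
  have e : (AlgSt.ofSpMap (f i)).obj ⟨Over.mk t, x⟩ = b := by
    rw [hm, ← hx]; rfl
  exact eqToHom e ≫ β

end Pts

section Equiv

variable {𝒜 ℬ 𝒞 : AlgSt.Cat S}

theorem isUnivHomeo_of_equiv_comp {E : 𝒜 ⥤ᵇ ℬ} (hE : FibCat.IsEquivOver E) {p : ℬ ⥤ᵇ 𝒞}
    (h : AlgSt.IsUnivHomeo Scheme.fppfPrecoverage (BasedFunctor.comp E p)) :
    AlgSt.IsUnivHomeo Scheme.fppfPrecoverage p := fun 𝒵 h𝒵 z =>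
  (homeo_iff (isEquivOver_fpPreR z E hE p) (Iso.refl _)).1 (h 𝒵 h𝒵 z)

theorem isSeparatedMor_of_equiv_comp (h𝒜 : FibCat.IsFibGrpd 𝒜.p) (hℬ : FibCat.IsFibGrpd ℬ.p)
    (h𝒞 : FibCat.IsFibGrpd 𝒞.p) {E : 𝒜 ⥤ᵇ ℬ} (hE : FibCat.IsEquivOver E) {p : ℬ ⥤ᵇ 𝒞}
    (h : AlgSt.IsSeparatedMor (BasedFunctor.comp E p)) : AlgSt.IsSeparatedMor p := by
  obtain ⟨G, hG, -, ⟨β⟩⟩ := exists_inverse hE
  exact isSeparatedMor_congr hℬ h𝒞 (wr β p) (isSeparatedMor_equiv_comp hℬ h𝒜 h𝒞 hG h)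

/-- A universal homeomorphism is quasi-compact. -/
theorem isQuasiCompactMor_of_isUnivHomeo (h𝒜 : AlgSt.IsAlgStack Scheme.fppfPrecoverage 𝒜)
    (h𝒞 : AlgSt.IsAlgStack Scheme.fppfPrecoverage 𝒞) {p : 𝒜 ⥤ᵇ 𝒞}
    (h : AlgSt.IsUnivHomeo Scheme.fppfPrecoverage p) : AlgSt.IsQuasiCompactMor Scheme.fppfPrecoverage p := by
  intro 𝒵 h𝒵 hq z
  have a1 := K746.UHomeo.alg_fp h𝒵 h𝒜 h𝒞 z p
  rw [K736.QC.isQuasiCompact_iff h𝒵] at hq
  rw [K736.QC.isQuasiCompact_iff a1]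
  have h1 := h 𝒵 h𝒵 z
  exact (h1.homeomorph _).symm.compactSpace

end Equiv

/-- The moduli spaces of the charts. -/
structure CovMod {𝒳 : AlgSt.Cat S} (C : Cov 𝒳) where
  V : C.ι → Over S
  π : ∀ i, C.X i ⥤ᵇ AlgSt.ofSch (V i)
  aff : ∀ i, IsAffine (V i).left
  unif : ∀ i, AlgSt.IsUnifCatModuli (π i)
  geo : ∀ i, AlgSt.GeomPtBij (π i)
  sep : ∀ i, AlgSt.IsSeparatedMor (π i)
  qc : ∀ i, AlgSt.IsQuasiCompactMor Scheme.fppfPrecoverage (π i)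
  uh : ∀ i, AlgSt.IsUnivHomeo Scheme.fppfPrecoverage (π i)

theorem exists_covMod {𝒳 : AlgSt.Cat S} (C : Cov 𝒳) : Nonempty (CovMod C) := by
  choose V π h1 h2 h3 h4 h5 h6 using fun i => K746.exists_wna_moduli (C.alg i) (C.wna i)
  exact ⟨⟨V, π, h1, h2, h3, h4, h5, h6⟩⟩

/-- Overlaps. -/
structure Ov {𝒳 : AlgSt.Cat S} (h𝒳 : AlgSt.IsAlgStack Scheme.fppfPrecoverage 𝒳) {C : Cov 𝒳} (m : CovMod C)
    (i j : C.ι) where
  R : Over S
  ρ : Sh (alg_fp h𝒳 (C.alg i) (C.alg j) (C.g i) (C.g j)).isStack.1 ⟶ (yon S).obj R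
  p : R ⟶ m.V i
  q : R ⟶ m.V j
  sqp : IsPullback (shMap _ (C.alg i).isStack.1 (FibCat.fpFst (C.g i) (C.g j))) ρ
    (shDesc (C.alg i).isStack.1 (m.π i)) ((yon S).map p)
  sqq : IsPullback (shMap _ (C.alg j).isStack.1 (FibCat.fpSnd (C.g i) (C.g j))) ρ
    (shDesc (C.alg j).isStack.1 (m.π j)) ((yon S).map q)
  hp : EtSep p.left
  hq : EtSep q.left

theorem exists_ov {𝒳 : AlgSt.Cat S} (h𝒳 : AlgSt.IsAlgStack Scheme.fppfPrecoverage 𝒳) {C : Cov 𝒳} (m : CovMod C)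
    (i j : C.ι) : Nonempty (Ov h𝒳 m i j) := by
  obtain ⟨R, ρ, p, q, h1, h2, h3, h4⟩ := exists_overlap h𝒳 (C.alg i) (C.alg j) (C.g i) (C.g j) (C.wna i) (C.wna j)
    (C.et i) (C.et j) (C.sep i) (C.sep j) (C.aut i) (C.aut j) (m.π i) (m.unif i) (m.π j) (m.unif j)
    (alg_fp h𝒳 (C.alg i) (C.alg j) (C.g i) (C.g j)).isStack.1
  exact ⟨⟨R, ρ, p, q, h1, h2, h3, h4⟩⟩

noncomputable def ov {𝒳 : AlgSt.Cat S} (h𝒳 : AlgSt.IsAlgStack Scheme.fppfPrecoverage 𝒳) {C : Cov 𝒳} (m : CovMod C)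
    (i j : C.ι) : Ov h𝒳 m i j := (exists_ov h𝒳 m i j).some

theorem locP_etale_of {𝒳 𝒴 : AlgSt.Cat S} {f : 𝒳 ⥤ᵇ 𝒴} (h : AlgSt.RepByAlgSpWith IsEtaleMor f) :
    AlgSt.RepByAlgSpWith (LocP @Etale) f :=
  K739.Alg.repByAlgSpWith_mono (fun _ _ _ h => K597.locP_etale_of_isEtaleMor h) h

/-- The gluing datum. -/
noncomputable def gd {𝒳 : AlgSt.Cat S} (h𝒳 : AlgSt.IsAlgStack Scheme.fppfPrecoverage 𝒳) {C : Cov 𝒳} (m : CovMod C) :
    GD S where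
  ι := C.ι
  A := Sh h𝒳.isStack.1
  B i := Sh (C.alg i).isStack.1
  M := m.V
  g i := shMap _ _ (C.g i)
  π i := shDesc _ (m.π i)
  B2 i j := Sh (alg_fp h𝒳 (C.alg i) (C.alg j) (C.g i) (C.g j)).isStack.1
  fst i j := shMap _ _ (FibCat.fpFst (C.g i) (C.g j))
  snd i j := shMap _ _ (FibCat.fpSnd (C.g i) (C.g j))
  sq i j := isPullback_shMap _ _ _ _ _ (C.aut i).surj _
  R i j := (ov h𝒳 m i j).R
  ρ i j := (ov h𝒳 m i j).ρ
  p i j := (ov h𝒳 m i j).p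
  q i j := (ov h𝒳 m i j).q
  sqp i j := (ov h𝒳 m i j).sqp
  sqq i j := (ov h𝒳 m i j).sqq
  etp i j := (ov h𝒳 m i j).hp.1
  sep i j := (ov h𝒳 m i j).hp.2
  etq i j := (ov h𝒳 m i j).hq.1
  seq i j := (ov h𝒳 m i j).hq.2
  jsurj := jsurj_shMap h𝒳.isStack.1 (fun i => (C.alg i).isStack.1) C.g (fun i => locP_etale_of (C.et i)) C.cov
  funi i := ((isUnifCatModuli_iff (C.alg i).isStack.1 (m.π i)).1 (m.unif i)).2
  geo i := (geomPtBij_iff (C.alg i).isStack.1 (m.π i)).1 (m.geo i)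

/-- The moduli space of `𝒳` with its charts. -/
structure KMData {𝒳 : AlgSt.Cat S} {C : Cov 𝒳} (m : CovMod C) where
  Q : Sp S
  v : ∀ i, (yon S).obj (m.V i) ⟶ Q
  π : 𝒳 ⥤ᵇ AlgSt.ofSp Q
  alg : IsAlgSpace Q
  jsurj : JSurj v
  rep : ∀ i, RepWith EtSep (v i)
  unif : AlgSt.IsUnifCatModuli π
  geo : AlgSt.GeomPtBij π
  e : ∀ i, BasedFunctor.comp (C.g i) π ≅ BasedFunctor.comp (m.π i) (AlgSt.ofSpMap (v i))
  cart : ∀ i, FibCat.IsTwoCartOver (C.g i) (m.π i) (e i)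

theorem exists_kmData {𝒳 : AlgSt.Cat S} (h𝒳 : AlgSt.IsAlgStack Scheme.fppfPrecoverage 𝒳) {C : Cov 𝒳} (m : CovMod C) :
    Nonempty (KMData m) := by
  obtain ⟨Q, v, π, h1, h2, h3, h4, h5, h6, h7⟩ := (gd h𝒳 m).exists_glue
  let P : 𝒳 ⥤ᵇ AlgSt.ofSp Q := BasedFunctor.comp (toSp h𝒳.isStack.1) (AlgSt.ofSpMap π)
  have hP : shDesc h𝒳.isStack.1 P = π := shDesc_toSp_comp _ _
  have hQ := K740.SpDM.isAlgStack_ofSp h1
  have e : ∀ i, Nonempty (BasedFunctor.comp (C.g i) P ≅ BasedFunctor.comp (m.π i) (AlgSt.ofSpMap (v i))) := by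
    intro i
    refine K746.nonempty_iso_ofPsh_iff.2 ((shDesc_eq_iff (C.alg i).isStack.1).1 ?_)
    rw [← shMap_shDesc _ h𝒳.isStack.1, hP, shDesc_comp]
    exact (h4 i).w
  refine ⟨⟨Q, v, P, h1, h2, h3, ?_, ?_, fun i => (e i).some, fun i => ?_⟩⟩
  · rw [isUnifCatModuli_iff h𝒳.isStack.1, hP]
    exact ⟨h1, h6⟩
  · rw [geomPtBij_iff h𝒳.isStack.1, hP]
    exact h7
  · refine isTwoCartOver_of_isPullback (C.alg i).isStack h𝒳.isStack _ (C.aut i) ?_ ?_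
    · rw [hP]
      exact h4 i
    · exact K734.Rep.isPrestack_of_isStack
        (alg_fp hQ h𝒳 (K740.SpDM.isAlgStack_ofSp (IsAlgSpace.yon_obj _)) P (AlgSt.ofSpMap (v i))).isStack

/-- Étale maps of algebraic spaces. -/
theorem locP_etale_ofSpMap {F G : Sp S} {f : F ⟶ G} (h : RepWith EtSep f) :
    AlgSt.RepByAlgSpWith (LocP @Etale) (AlgSt.ofSpMap f) := by
  have := K735.Top.locP_respectsIso (S := S) @Etale
  refine K735.Top.repByAlgSpWith_ofSpMap_of_repWith (P := EtSep) (fun A B g hg => ?_) h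
  exact K597.locP_of_repWith (P := @Etale) (fun A B C e f he hf => by
    have : Etale e := he
    have : Etale f := hf
    exact (inferInstance : Etale (e ≫ f))) (K597.repWith_mono (fun _ _ _ h => h.1) hg)

namespace KMData

variable {𝒳 : AlgSt.Cat S} (h𝒳 : AlgSt.IsAlgStack Scheme.fppfPrecoverage 𝒳) {C : Cov 𝒳} {m : CovMod C} (k : KMData m)

theorem algM : AlgSt.IsAlgStack Scheme.fppfPrecoverage (AlgSt.ofSp k.Q) := K740.SpDM.isAlgStack_ofSp k.alg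

theorem algV (i : C.ι) : AlgSt.IsAlgStack Scheme.fppfPrecoverage (AlgSt.ofSch (m.V i)) :=
  K740.SpDM.isAlgStack_ofSp (IsAlgSpace.yon_obj _)

/-- The chart as a base change. -/
theorem exists_equiv (i : C.ι) : ∃ E : C.X i ⥤ᵇ FibCat.fp (AlgSt.ofSpMap (k.v i)) k.π, FibCat.IsEquivOver E ∧
    BasedFunctor.comp E (FibCat.fpFst (AlgSt.ofSpMap (k.v i)) k.π) = m.π i ∧
    BasedFunctor.comp E (FibCat.fpSnd (AlgSt.ofSpMap (k.v i)) k.π) = C.g i :=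
  ⟨BasedFunctor.comp (FibCat.fpLift (C.g i) (m.π i) (k.e i)) (fpSwap k.π (AlgSt.ofSpMap (k.v i))),
    isEquivOver_comp (k.cart i) (isEquivOver_fpSwap _ _), rfl, rfl⟩

include h𝒳

theorem sep : AlgSt.IsSeparatedMor k.π := by
  refine isSeparatedMor_of_local h𝒳 k.algM k.π (fun i => isFibGrpd_ofSp _) (fun i => AlgSt.ofSpMap (k.v i))
    (fun i => locP_etale_ofSpMap (k.rep i)) (JSurj.points k.jsurj) (fun i => ?_)
  obtain ⟨E, hE, h1, -⟩ := k.exists_equiv i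
  refine isSeparatedMor_of_equiv_comp (C.alg i).isStack.1
    (alg_fp k.algM (algV i) h𝒳 (AlgSt.ofSpMap (k.v i)) k.π).isStack.1 (isFibGrpd_ofSp _) hE ?_
  rw [h1]
  exact m.sep i

theorem uh : AlgSt.IsUnivHomeo Scheme.fppfPrecoverage k.π := by
  refine isUnivHomeo_of_local h𝒳 k.algM k.π (fun i => algV i) (fun i => AlgSt.ofSpMap (k.v i))
    (fun i => locP_etale_ofSpMap (k.rep i)) (JSurj.points k.jsurj) (fun i => ?_)
  obtain ⟨E, hE, h1, -⟩ := k.exists_equiv i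
  refine isUnivHomeo_of_equiv_comp hE ?_
  rw [h1]
  exact m.uh i

theorem qc : AlgSt.IsQuasiCompactMor Scheme.fppfPrecoverage k.π :=
  isQuasiCompactMor_of_isUnivHomeo h𝒳 k.algM (k.uh h𝒳)

end KMData

/-- Local charts by well-nigh affine stacks (S16703). -/
def I16703 (S : Scheme.{u}) : Prop := ∀ (𝒳 : AlgSt.Cat S), AlgSt.IsAlgStack Scheme.fppfPrecoverage 𝒳 →
    AlgSt.RepByAlgSpWith AlgSp.IsFiniteMor (FibCat.inertiaToBase (FibCat.toSelf 𝒳)) → ∀ (x : AlgSt.Points 𝒳),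
    ∃ (𝒳' : AlgSt.Cat S) (g : 𝒳' ⥤ᵇ 𝒳), x ∈ Set.range (AlgSt.Points.map g) ∧
      AlgSt.IsAlgStack Scheme.fppfPrecoverage 𝒳' ∧ AlgSt.IsWellNighAffine 𝒳' ∧
      (∀ x' : 𝒳'.obj, Function.Bijective (Gerb.autMap g x')) ∧
      AlgSt.RepByAlgSpWith AlgSp.IsEtaleMor g ∧ AlgSt.IsSeparatedMor g

/-- The Keel–Mori theorem, from the existence of local charts. -/
theorem main16692 (i : I16703 S) (𝒳 : AlgSt.Cat S) (h𝒳 : AlgSt.IsAlgStack Scheme.fppfPrecoverage 𝒳)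
    (hI : AlgSt.RepByAlgSpWith AlgSp.IsFiniteMor (FibCat.inertiaToBase (FibCat.toSelf 𝒳))) :
    ∃ (M : AlgSp.Sp S) (π : 𝒳 ⥤ᵇ AlgSt.ofSp M), AlgSt.IsUnifCatModuli π ∧ AlgSt.IsSeparatedMor π ∧
      AlgSt.IsQuasiCompactMor Scheme.fppfPrecoverage π ∧ AlgSt.IsUnivHomeo Scheme.fppfPrecoverage π := by
  obtain ⟨C⟩ := exists_cov h𝒳 (i 𝒳 h𝒳 hI)
  obtain ⟨m⟩ := exists_covMod C
  obtain ⟨k⟩ := exists_kmData h𝒳 m
  exact ⟨k.Q, k.π, k.unif, k.sep h𝒳, k.qc h𝒳, k.uh h𝒳⟩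

end K161.KM
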